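import Cfsg.Agent.ACn.Defs

/-!
# Anticentral elements

`K = commutator G`.  A *supplement* is a subgroup `U` with `U ⊔ K = ⊤`.
-/

set_option autoImplicit false
set_option linter.unusedSectionVars false

namespace Cfsg.Agent.ACn

open Cfsg.Agent.PLocal hiding centralizer_anti
open Subgroup Cfsg Cfsg.Agent.PLocal.Amb Cfsg.Agent.PLocal.TV
open Cfsg.Agent.PLocal.SL2Nat Cfsg.Agent.PLocal.Bk
open Cfsg.Agent.PLocal.CP (IsCharP MinOver ncl secCent)
open Cfsg.Agent.Solv.Ext (Inv)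
open Cfsg.Agent.QT.Qrc (P2)
open Cfsg.Agent.NFS
open scoped commutatorElement MatrixGroups Cfsg.Agent.PLocal.CP

variable {G : Type*} [Group G] [Finite G] {a : G} {U D K : Subgroup G}

/-- the number of `U`-conjugates of `a` -/
theorem bas_ncard_cl (U : Subgroup G) (a : G) :
    {x : G | ∃ u ∈ U, u * a * u⁻¹ = x * a}.ncard = (𝐜[a]).relIndex U := by
  let f : U ⧸ (𝐜[a]).subgroupOf U → G := fun q => q.out * a * (q.out : G)⁻¹ * a⁻¹
  have key : ∀ u v : U, (u : G) * a * (u : G)⁻¹ = v * a * (v : G)⁻¹ ↔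
      u⁻¹ * v ∈ (𝐜[a]).subgroupOf U := by
    intro u v
    rw [mem_subgroupOf, mem_centralizer_singleton_iff]
    simp only [Subgroup.coe_mul, Subgroup.coe_inv]
    constructor
    · intro e
      calc (u : G)⁻¹ * v * a = (u : G)⁻¹ * (v * a * (v : G)⁻¹) * v := by group
        _ = a * ((u : G)⁻¹ * v) := by rw [← e]; group
    · intro e
      calc (u : G) * a * (u : G)⁻¹ = u * (a * ((u : G)⁻¹ * v)) * (v : G)⁻¹ := by group
        _ = v * a * (v : G)⁻¹ := by rw [← e]; group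
  have inj : Function.Injective f := by
    intro q q' e
    have e' : (q.out : G) * a * (q.out : G)⁻¹ = q'.out * a * (q'.out : G)⁻¹ :=
      mul_right_cancel e
    rw [← QuotientGroup.out_eq' q, ← QuotientGroup.out_eq' q']
    exact QuotientGroup.eq.2 ((key _ _).1 e')
  have rng : {x : G | ∃ u ∈ U, u * a * u⁻¹ = x * a} = Set.range f := by
    ext x
    constructor
    · rintro ⟨u, hu, e⟩
      refine ⟨QuotientGroup.mk ⟨u, hu⟩, ?_⟩
      have e' := (key _ ⟨u, hu⟩).2 (QuotientGroup.eq.1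
        (QuotientGroup.out_eq' (QuotientGroup.mk (s := (𝐜[a]).subgroupOf U) ⟨u, hu⟩)))
      simp only [f]
      rw [e']
      change u * a * u⁻¹ * a⁻¹ = x
      rw [e, mul_inv_cancel_right]
    · rintro ⟨q, rfl⟩
      exact ⟨q.out, q.out.2, by simp only [f, inv_mul_cancel_right]⟩
  rw [rng, Set.ncard_range_of_injective inj]
  rfl

theorem bas_rel_mul (H U : Subgroup G) : H.relIndex U * Nat.card ↥(U ⊓ H) = Nat.card U := by
  rw [← (H.subgroupOf U).index_mul_card, ← inf_subgroupOf_left H U,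
    Nat.card_congr (subgroupOfEquivOfLe (inf_le_left : U ⊓ H ≤ U)).toEquiv, inf_subgroupOf_left]
  rfl

/-- Counting.  The class of `a` in `G` is `K a` (`Ac`, and `g a g⁻¹ a⁻¹ ∈ K`), so `(𝐜[a]).index = |K|`.  The
`U`-class of `a` has `(𝐜[a]).relIndex U` elements and lies in `⁅U, U⁆ a ⊆ (U ⊓ K) a`.  As `U K = G`:
`|U| |K| = |G| |U ⊓ K|`, so `|U ⊓ K| = |U| / |𝐜[a]| ≤ |U| / |U ⊓ 𝐜[a]| = |a^U| ≤ |⁅U, U⁆| ≤ |U ⊓ K|`; all
are equalities: `𝐜[a] ≤ U`, `⁅U, U⁆ = U ⊓ K`, `a^U = (U ⊓ K) a`.  First clause: `g⁻¹ a g = x a` with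
`x ∈ U ⊓ K`, `= u a u⁻¹`, so `g u ∈ 𝐜[a] ≤ U`. -/
theorem Ac.sup (h : Ac a) (ha : a ∈ U) (hU : U ⊔ commutator G = ⊤) :
    (∀ g : G, g⁻¹ * a * g ∈ U → g ∈ U) ∧ U ⊓ commutator G = ⁅U, U⁆ ∧
      ∀ x ∈ U ⊓ commutator G, ∃ u ∈ U, u * a * u⁻¹ = x * a := by
  have hK : {x : G | ∃ u ∈ (⊤ : Subgroup G), u * a * u⁻¹ = x * a} = commutator G := by
    ext x
    constructor
    · rintro ⟨u, -, e⟩
      have : x = ⁅u, a⁆ := by rw [commutatorElement_def, e, mul_inv_cancel_right]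
      rw [this]
      exact commutator_mem_commutator (mem_top _) (mem_top _)
    · intro hx
      obtain ⟨g, e⟩ := h x hx
      exact ⟨g, mem_top _, e⟩
  have c1 : Nat.card (commutator G) = (𝐜[a]).index := by
    rw [← relIndex_top_right, ← bas_ncard_cl, hK]
    rfl
  have c2 : Nat.card ↥𝐜[a] = (commutator G).relIndex U := by
    rw [← relIndex_sup_right, hU, relIndex_top_right]
    apply Nat.eq_of_mul_eq_mul_right (Nat.card_pos (α := commutator G))
    rw [index_mul_card, c1, card_mul_index]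
  have c3 := bas_rel_mul (commutator G) U
  have c4 := bas_rel_mul 𝐜[a] U
  have s1 : {x : G | ∃ u ∈ U, u * a * u⁻¹ = x * a} ⊆ (⁅U, U⁆ : Subgroup G) := by
    rintro x ⟨u, hu, e⟩
    have : x = ⁅u, a⁆ := by rw [commutatorElement_def, e, mul_inv_cancel_right]
    rw [this]
    exact commutator_mem_commutator hu ha
  have s2 : ⁅U, U⁆ ≤ U ⊓ commutator G :=
    le_inf (commutator_le.2 fun x hx y hy =>
      mul_mem (mul_mem (mul_mem hx hy) (inv_mem hx)) (inv_mem hy)) (commutator_mono le_top le_top)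
  have s3 : {x : G | ∃ u ∈ U, u * a * u⁻¹ = x * a} ⊆ (U ⊓ commutator G : Subgroup G) :=
    s1.trans s2
  have l1 : (𝐜[a]).relIndex U ≤ Nat.card ↥(U ⊓ commutator G) := by
    rw [← bas_ncard_cl]
    exact Set.ncard_le_ncard s3
  have l2 : Nat.card ↥(U ⊓ 𝐜[a]) ≤ Nat.card ↥𝐜[a] := card_le_of_le inf_le_right
  rw [← c2, ← c4] at c3
  have p1 : 0 < Nat.card ↥𝐜[a] := Nat.card_pos
  have p2 : 0 < Nat.card ↥(U ⊓ commutator G) := Nat.card_pos
  have e1 : Nat.card ↥(U ⊓ commutator G) ≤ (𝐜[a]).relIndex U := by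
    apply Nat.le_of_mul_le_mul_left _ p1
    rw [c3, mul_comm]
    exact Nat.mul_le_mul_right _ l2
  have e2 : Nat.card ↥𝐜[a] ≤ Nat.card ↥(U ⊓ 𝐜[a]) := by
    apply Nat.le_of_mul_le_mul_right _ p2
    rw [c3, mul_comm]
    exact Nat.mul_le_mul_left _ l1
  have hC : 𝐜[a] ≤ U := by
    have := eq_of_le_of_card_ge (inf_le_right : U ⊓ 𝐜[a] ≤ 𝐜[a]) e2
    rw [← this]
    exact inf_le_left
  have e3 : {x : G | ∃ u ∈ U, u * a * u⁻¹ = x * a} = (U ⊓ commutator G : Subgroup G) :=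
    Set.eq_of_subset_of_ncard_le s3 (by rw [bas_ncard_cl]; exact e1)
  have e4 : ∀ x ∈ U ⊓ commutator G, ∃ u ∈ U, u * a * u⁻¹ = x * a := fun x hx => by
    have : x ∈ {x : G | ∃ u ∈ U, u * a * u⁻¹ = x * a} := by rw [e3]; exact hx
    exact this
  refine ⟨fun g hg => ?_, le_antisymm (fun x hx => s1 (e4 x hx)) s2, e4⟩
  obtain ⟨u, hu, e⟩ := e4 (g⁻¹ * a * g * a⁻¹) ⟨U.mul_mem hg (U.inv_mem ha), by
    have : g⁻¹ * a * g * a⁻¹ = ⁅g⁻¹, a⁆ := by rw [commutatorElement_def, inv_inv]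
    rw [this]
    exact commutator_mem_commutator (mem_top _) (mem_top _)⟩
  have hgu : g * u ∈ 𝐜[a] := by
    rw [mem_centralizer_singleton_iff]
    calc g * u * a = g * (u * a * u⁻¹) * u := by group
      _ = a * (g * u) := by rw [e]; group
  simpa using mul_mem (hC hgu) (inv_mem hu)

/-- `(commutator U).map U.subtype = ⁅U, U⁆` -/
theorem Ac.sub (h : Ac a) (ha : a ∈ U) (hU : U ⊔ commutator G = ⊤) : Ac (⟨a, ha⟩ : U) := by
  intro x hx
  obtain ⟨-, e, h3⟩ := h.sup ha hU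
  have : (x : G) ∈ U ⊓ commutator G := by
    rw [e, ← map_subtype_commutator]
    exact mem_map_of_mem _ hx
  obtain ⟨u, hu, e'⟩ := h3 x this
  exact ⟨⟨u, hu⟩, Subtype.ext e'⟩

theorem Ac.map {G' : Type*} [Group G'] (h : Ac a) {f : G →* G'} (hf : Function.Surjective f) :
    Ac (f a) := by
  intro x hx
  have : commutator G' = (commutator G).map f := by
    rw [_root_.commutator_def, _root_.commutator_def, map_commutator,
      map_top_of_surjective f hf]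
  rw [this] at hx
  obtain ⟨y, hy, rfl⟩ := hx
  obtain ⟨g, e⟩ := h y hy
  exact ⟨f g, by rw [← map_inv, ← map_mul, ← map_mul, e, map_mul]⟩

/-- `a = k u` with `k ∈ K`, `u ∈ U`; `k⁻¹ a = g a g⁻¹` -/
theorem Ac.into (h : Ac a) (hU : U ⊔ commutator G = ⊤) : ∃ g : G, a ∈ cj(g, U) := by
  have ha : a ∈ commutator G ⊔ U := by rw [sup_comm, hU]; exact mem_top _
  obtain ⟨k, hk, u, hu, e⟩ := (mem_sup_of_le_normalizer_left
    (by rw [normalizer_eq_top]; exact le_top)).1 ha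
  obtain ⟨g, e'⟩ := h k⁻¹ (inv_mem hk)
  refine ⟨g⁻¹, mem_cj.2 ?_⟩
  rw [inv_inv, e', e, inv_mul_cancel_left]
  exact hu

/-- a conjugate of a supplement is a supplement -/
theorem sup_cj (hU : U ⊔ commutator G = ⊤) (g : G) : cj(g, U) ⊔ commutator G = ⊤ := by
  rw [← cj_of_normal g (commutator G), ← cj_sup, hU, cj_top]

/-- If `D ⊓ U < D` there is `x ∈ D ⊓ 𝐍[D ⊓ U]`, `x ∉ U` (normaliser condition in the nilpotent group `D`);
`x⁻¹ a x ∈ D ⊓ U`, so `x ∈ U` by `Ac.sup`. -/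
theorem Ac.nil_le (h : Ac a) (ha : a ∈ U) (hU : U ⊔ commutator G = ⊤) (hD : Group.IsNilpotent D)
    (aD : a ∈ D) : D ≤ U := by
  by_contra hn
  have h1 : U.subgroupOf D < ⊤ := lt_top_iff_ne_top.2 fun e => hn (subgroupOf_eq_top.1 e)
  obtain ⟨x, hx, hx'⟩ := SetLike.exists_of_lt (Group.normalizerCondition_of_isNilpotent _ h1)
  apply hx'
  have h2 : x⁻¹ * ⟨a, aD⟩ * x ∈ U.subgroupOf D := inv_conj_mem_of_mem_normalizer hx ha
  exact (h.sup ha hU).1 x h2

/-- `D` minimal among the supplements containing `a`.  In `↥D` the element `a` is anticentral (`sub`).  A coatom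
`M` of `Subgroup D` contains `commutator D`: otherwise `M ⊔ commutator D = ⊤`, `into` gives a conjugate
`M' ∋ a`, and `M'.map D.subtype < D` is a supplement in `G` containing `a`.  So all coatoms are normal:
`isNilpotent_of_finite_tfae`. -/
theorem Ac.exD (h : Ac a) : ∃ D : Subgroup G, a ∈ D ∧ D ⊔ commutator G = ⊤ ∧ Group.IsNilpotent D := by
  obtain ⟨D, ⟨aD, hD⟩, hmin⟩ := exists_minimal_of_wellFoundedLT
    (fun D : Subgroup G => a ∈ D ∧ D ⊔ commutator G = ⊤) ⟨⊤, mem_top _, top_sup_eq _⟩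
  refine ⟨D, aD, hD, ((Group.isNilpotent_of_finite_tfae (G := D)).out 0 2).2 ?_⟩
  intro M hM
  apply Normal.of_commutator_le
  by_contra hn
  have h1 : M ⊔ commutator D = ⊤ := hM.2 _ (left_lt_sup.2 hn)
  obtain ⟨g, hg⟩ := (h.sub aD hD).into h1
  have h2 := congrArg (Subgroup.map D.subtype) (sup_cj h1 g)
  rw [Subgroup.map_sup, map_subtype_commutator, ← MonoidHom.range_eq_map, range_subtype] at h2
  have h3 : (cj(g, M)).map D.subtype ⊔ commutator G = ⊤ := by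
    rw [eq_top_iff, ← hD]
    refine sup_le ?_ le_sup_right
    conv_lhs => rw [← h2]
    exact sup_le_sup_left (commutator_mono le_top le_top) _
  have h4 := hmin ⟨mem_map_of_mem D.subtype hg, h3⟩ (map_subtype_le _)
  apply hM.1
  rw [← cj_eq_top (g := g), eq_top_iff]
  intro x _
  obtain ⟨y, hy, e⟩ := h4 x.2
  rwa [← Subtype.ext e]

/-- `P₀` Sylow in `K`, `U = D ⊔ K ≤ 𝐍[K]`.  Frattini (`IsSyl.frattini'`): `a = k⁻¹ n` with `k ∈ K`, `n ∈ 𝐍[P₀]`;
`n = k a = u a u⁻¹` with `u ∈ U` (`Ac.sup`), so `a ∈ 𝐍[P]`, `P = cj(u⁻¹, P₀)` Sylow in `K`.  Frattini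
again: `D ≤ 𝐍[P] ⊔ K`, so `𝐍[P]` is a supplement; `nil_le`. -/
theorem Ac.syl (h : Ac a) (aD : a ∈ D) (hD : D ⊔ commutator G = ⊤) (nil : Group.IsNilpotent D)
    (hK : K ≤ commutator G) (hn : D ≤ 𝐍[K]) (p : ℕ) [Fact p.Prime] : ∃ P, IsSyl p P K ∧ D ≤ 𝐍[P] := by
  obtain ⟨P₀, hP₀⟩ := exists_isSyl p K
  obtain ⟨n, hn', x, hx, e⟩ := hP₀.frattini (hn aD)
  have hU : (D ⊔ K) ⊔ commutator G = ⊤ := by
    rw [eq_top_iff, ← hD]
    exact sup_le_sup_right le_sup_left _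
  obtain ⟨u, hu, e'⟩ := (h.sup (mem_sup_left aD) hU).2.2 n⁻¹
    ⟨mem_sup_right (inv_mem hn'), hK (inv_mem hn')⟩
  have hP : IsSyl p cj(u⁻¹, P₀) K :=
    hP₀.cj_of_mem_normalizer (inv_mem (sup_le hn le_normalizer hu))
  refine ⟨_, hP, h.nil_le ?_ ?_ nil aD⟩
  · rw [normalizer_cj, mem_cj, inv_inv, e']
    nth_rw 1 [e]
    rw [inv_mul_cancel_left]
    exact hx
  · rw [eq_top_iff, ← hD]
    refine sup_le (fun d hd => ?_) le_sup_right
    obtain ⟨y, hy, k, hk, rfl⟩ := hP.frattini' (hn hd)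
    exact mul_mem_sup hy (hK hk)

end Cfsg.Agent.ACn
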