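import Cfsg.Agent.ACn.Defs
import Cfsg.Agent.Char.Irr
import Cfsg.Agent.Palfy.Tools

/-!
# From characters to `Ac` 
-/

set_option autoImplicit false
set_option linter.unusedSectionVars false

namespace Cfsg.Agent.ACn

open Cfsg.Agent.PLocal hiding centralizer_anti
open Subgroup Cfsg Cfsg.Agent.PLocal.Amb Cfsg.Agent.PLocal.TV
open Cfsg.Agent.PLocal.SL2Nat Cfsg.Agent.PLocal.Bk
open Cfsg.Agent.PLocal.CP (IsCharP MinOver ncl secCent)
open Cfsg.Agent.Solv.Ext (Inv)
open Cfsg.Agent.QT.Qrc (P2)
open Cfsg.Agent.NFS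
open scoped commutatorElement MatrixGroups Cfsg.Agent.PLocal.CP

/-- Let `x ∈ commutator G`.  If `g` is not conjugate to `x g` then `∑ χ, χ g * conj (χ (x g)) = 0`
(`sum_irr_mul_conj_of_not_isConj` in `Char/Irr`).  Terms with `charDegree χ ≠ 1` vanish; a character of degree
one is multiplicative (`ca find` for linear characters; it is the trace of a one-dimensional
representation), so `χ (x g) = χ g` and the term is `‖χ g‖ ^ 2 ≥ 0`; the trivial character gives `1`. -/
theorem ac_of_char {G : Type*} [Group G] [Finite G] (g : G)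
    (hg : ∀ χ : Cfsg.IrrCharacter G, Cfsg.charDegree (χ : G → ℂ) ≠ 1 → (χ : G → ℂ) g = 0) : Ac g := by
  intro x hx
  exact isConj_iff.1 (Palfy.isConj_of_vanish hg fun μ => by
    rw [map_mul, show μ x = 1 from Abelianization.commutator_subset_ker μ hx, one_mul]).symm

end Cfsg.Agent.ACn
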