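import Cfsg.Agent.ACn.Sg
import Cfsg.Agent.NFS.RkB

/-!
# A block with `q = 2` over `J(S)` is impossible (STUB, ~200 lines)

Read `NFS/Defs` (`Rk`, `Bl`) and the signatures of `NFS/RkA`, `NFS/RkB`.
-/

set_option autoImplicit false
set_option linter.unusedSectionVars false

namespace Cfsg.Agent.ACn

open Cfsg.Agent.PLocal hiding centralizer_anti
open Subgroup Cfsg Cfsg.Agent.PLocal.Amb Cfsg.Agent.PLocal.TV
open Cfsg.Agent.PLocal.SL2Nat Cfsg.Agent.PLocal.Bk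
open Cfsg.Agent.PLocal.CP (IsCharP MinOver ncl secCent)
open Cfsg.Agent.Solv.Ext (Inv)
open Cfsg.Agent.QT.Qrc (P2)
open Cfsg.Agent.NFS
open scoped commutatorElement MatrixGroups Cfsg.Agent.PLocal.CP

variable {G : Type*} [Group G] [Finite G] {J S W L : Subgroup G}

/-- * Some `X, X' ∈ 𝒲` have `¬ X' ≤ 𝐂[X]`: take `j ∈ X' \ 𝐂[X]`.  If `j ∉ 𝐂[X'']` then `¬ X'' ≤ 𝐂[X']`, also
  `¬ X ≤ 𝐂[X']`; `Rk.uniq` (base `X'`) gives `X'' ≤ 𝐂[X]`, `Rk.nc` twice `⁅X'', J⁆ = ⁅X', J⁆ = ⁅X, J⁆`; `Rk.same`.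
* All members commute.  Among the `A ∈ maxEA 2 J` with `o A = {X ∈ 𝒲 | ¬ A ≤ 𝐂[X]}` nonempty (`Rk.exA`) take one
  with `o A` minimal.  Let `X, X' ∈ o A`.  If `¬ A ⊓ 𝐂[X'] ≤ 𝐂[X]` then `A' = (A ⊓ 𝐂[X']) ⊔ X' ∈ maxEA 2 J`
  (`Rk.full`) has `X ∈ o A' ⊂ o A` (`X' ∉ o A'`), absurd.  So `A ⊓ 𝐂[X'] ≤ A ⊓ 𝐂[X]`, and symmetrically; `Rk.sle`
  gives `X' ≤ (A ⊓ 𝐂[X]) ⊔ X`, so `⁅X', J⁆ = ⁅X', A⁆ ≤ ⁅X, A⁆ = ⁅X, J⁆` (`full`; `A` is abelian), and symmetrically;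
  `Rk.same`.  Take `j ∈ A \ 𝐂[X]`. -/
theorem one_type {𝒲 : Set (Subgroup G)} (hne : 𝒲.Nonempty) (h : ∀ X ∈ 𝒲, ∃ L, Rk J X L 2) :
    ∃ X ∈ 𝒲, ∃ j ∈ J, j ∉ 𝐂[X] ∧ ∀ X' ∈ 𝒲, j ∉ 𝐂[X'] → J ⊓ 𝐂[X'] = J ⊓ 𝐂[X] := by
  by_cases c : ∀ X ∈ 𝒲, ∀ X' ∈ 𝒲, X' ≤ 𝐂[X]
  swap
  · push Not at c
    obtain ⟨X, hX, X', hX', n⟩ := c
    obtain ⟨j, j1, j2⟩ := SetLike.not_le_iff_exists.1 n
    obtain ⟨L, r⟩ := h X hX
    obtain ⟨L', r'⟩ := h X' hX'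
    refine ⟨X, hX, j, r'.WJ j1, j2, fun Y hY k => ?_⟩
    obtain ⟨M, t⟩ := h Y hY
    have n1 := mt le_centralizer_iff.1 n
    have n2 : ¬ Y ≤ 𝐂[X'] := fun e => k (le_centralizer_iff.1 e j1)
    exact r.same t (r'.uniq r t n1 n2) ((r'.nc t n2).2.trans (r'.nc r n1).2.symm)
  obtain ⟨X₀, h0⟩ := hne
  obtain ⟨A, ⟨hA, X, hX, n⟩, min⟩ := Set.exists_min_image
    {A | A ∈ maxEA 2 J ∧ ∃ X ∈ 𝒲, ¬ A ≤ 𝐂[X]} (fun A => {X ∈ 𝒲 | ¬ A ≤ 𝐂[X]}.ncard) (Set.toFinite _)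
    (let ⟨_, r⟩ := h X₀ h0; let ⟨A, a, b⟩ := r.exA; ⟨A, a, X₀, h0, b⟩)
  have k1 : ∀ X ∈ 𝒲, ∀ Y ∈ 𝒲, ¬ A ≤ 𝐂[Y] → A ⊓ 𝐂[Y] ≤ A ⊓ 𝐂[X] := fun X hX Y hY m => by
    obtain ⟨M, t⟩ := h Y hY
    refine le_inf inf_le_left (by_contra fun e => (min _ ⟨(t.full hA m).2.2.2.1, X, hX,
      fun k => e (le_sup_left.trans k)⟩).not_gt (Set.ncard_lt_ncard ⟨fun Z hZ => ⟨hZ.1, fun k =>
        hZ.2 (sup_le (inf_le_left.trans k) (c Z hZ.1 Y hY))⟩, fun k => ?_⟩))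
    exact (k ⟨hY, m⟩).2 (sup_le inf_le_right (c Y hY Y hY))
  have k2 : ∀ X ∈ 𝒲, ∀ Y ∈ 𝒲, ¬ A ≤ 𝐂[X] → ¬ A ≤ 𝐂[Y] → ⁅Y, J⁆ ≤ ⁅X, J⁆ := fun X hX Y hY n m => by
    obtain ⟨L, r⟩ := h X hX
    obtain ⟨M, t⟩ := h Y hY
    rw [← (r.full hA n).2.2.2.2, ← (t.full hA m).2.2.2.2, commutator_comm Y, commutator_comm X,
      ← rkb_comm (K := (A ⊓ 𝐂[X]) ⊔ X) le_sup_right (inf_le_left.trans (isEA_le_centralizer hA.2.1))
        fun x hx => (mem_sup_of_le_normalizer_left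
          (inf_le_right.trans (centralizer_le_normalizer' X))).1 (by rwa [sup_comm])]
    exact commutator_mono le_rfl (le_sup_right.trans
      (r.sle t (c X hX Y hY) n hA (le_antisymm (k1 Y hY X hX n) (k1 X hX Y hY m))))
  obtain ⟨j, j1, j2⟩ := SetLike.not_le_iff_exists.1 n
  refine ⟨X, hX, j, hA.1 j1, j2, fun Y hY k => ?_⟩
  obtain ⟨L, r⟩ := h X hX
  obtain ⟨M, t⟩ := h Y hY
  have m : ¬ A ≤ 𝐂[Y] := fun e => k (e j1)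
  exact r.same t (c X hX Y hY) (le_antisymm (k2 X hX Y hY n m) (k2 Y hY X hX m n))

/-- `|W| = 4`, `⁅W, J⁆ = ⟨z⟩ ≤ W ⊓ 𝐙[J]` has order 2 (`Rk.two`, `Rk.zw`); `W ⊓ 𝐂[J]` has index 2 in `W` (`Rk.idx`) -/
theorem rk2_elts (h : Rk J W L 2) : ∃ z w : G, z ≠ 1 ∧ z * z = 1 ∧ z ∈ 𝐂[J] ∧
    (∀ x, x ∈ ⁅W, J⁆ ↔ x = 1 ∨ x = z) ∧ (∀ x, x ∈ W ↔ x = 1 ∨ x = z ∨ x = w ∨ x = w * z) ∧ w ∉ 𝐂[J] ∧
    ∀ j ∈ J, j ∉ 𝐂[W] → j * w * j⁻¹ = w * z := by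
  have e := h.zw.2.2.1
  rw [h.two.2.2.1, sup_bot_eq] at e
  obtain ⟨⟨z, hz⟩, z1, z2⟩ := (Nat.card_eq_two_iff' (1 : ↥⁅W, J⁆)).1 h.two.2.1
  have m : ∀ x, x ∈ ⁅W, J⁆ ↔ x = 1 ∨ x = z := fun x => ⟨fun hx => or_iff_not_imp_left.2 fun k =>
    congrArg Subtype.val (z2 ⟨x, hx⟩ fun r => k (congrArg Subtype.val r)),
    fun k => k.elim (· ▸ one_mem _) (· ▸ hz)⟩
  obtain ⟨A, hA, n⟩ := h.exA
  obtain ⟨w, w1, w2⟩ := SetLike.not_le_iff_exists.1 fun k : W ≤ 𝐂[J] =>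
    n (hA.1.trans (le_centralizer_iff.1 k))
  have sq : ∀ x ∈ W, x * x = 1 := fun x hx => (pow_two x).symm.trans (h.ea.2 x hx)
  obtain ⟨zW, zC⟩ := mem_inf.1 (e.le hz)
  have mW : ∀ x, x ∈ W ↔ x = 1 ∨ x = z ∨ x = w ∨ x = w * z := fun x => ⟨fun hx => ?_, ?_⟩
  · refine ⟨z, w, fun r => z1 (Subtype.ext r), sq z zW, zC, m, mW, w2, fun j hj n => ?_⟩
    obtain k | k := (m _).1 (commutator_comm J W ▸ commutator_mem_commutator hj w1)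
    · refine (n (mem_centralizer_iff.2 fun x hx => ?_)).elim
      have k1 : Commute w j := (commutatorElement_eq_one_iff_mul_comm.1 k).symm
      have k2 : Commute z j := (mem_centralizer_iff.1 zC j hj).symm
      obtain rfl | rfl | rfl | rfl := (mW x).1 hx
      exacts [Commute.one_left j, k2, k1, k1.mul_left k2]
    · rw [isEA_comm h.ea w1 zW, ← k, commutatorElement_def, inv_mul_cancel_right]
  · by_cases c : x ∈ 𝐂[J]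
    · exact ((m x).1 (e.ge ⟨hx, c⟩)).imp_right .inl
    · have := (mul_mem_iff_of_index_two h.idx.2.1 (a := ⟨w, w1⟩) (b := ⟨x, hx⟩)).2 (iff_of_false w2 c)
      refine .inr (.inr (((m (w * x)).1 (e.ge ⟨mul_mem w1 hx, this⟩)).imp (fun k => ?_) fun k => ?_))
      · exact mul_left_cancel (k.trans (sq w w1).symm)
      · rw [← k, ← mul_assoc, sq w w1, one_mul]
  · rintro (rfl | rfl | rfl | rfl)
    exacts [one_mem _, zW, w1, mul_mem w1 zW]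

/-- `J = 𝐉[2, S]`, `J.map g = J` for `g ∈ Γ` (`map_thompsonSubgroupOf`, `inv`); `Rk J (W.map g) (L.map g) 2` (`Rk.map`).
`one_type` for `𝒲 = {W.map g | g ∈ Γ}` gives `X = W.map g₀` and `j₁`; `j = g₀⁻¹ j₁ ∈ J`, `j ∉ 𝐂[W]`, and for
`g ∈ Γ`: `j ∉ 𝐂[W.map g] → J ⊓ 𝐂[W.map g] = J ⊓ 𝐂[W] =: Q` (apply `g₀`).  `Gam.sg2` with `z`, `w` from `rk2_elts`
and `U₁ = {g ∈ Γ | Q.map g = Q}` (`Q.map g = J ⊓ 𝐂[W.map g]`).  `h1`: `g z ∈ 𝐂[J]`.  `h2`: `j ∉ Q = Q.map g`, so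
`g⁻¹ j ∈ J \ 𝐂[W]`, apply `g` to the last clause of `rk2_elts`.  `h2'`: `j ∈ 𝐂[W.map g]`.  `h3`: `W.map g = W`.
`h4`: `s ∈ 𝐍[Q]`, so `s ∈ 𝐍[W]` (`Bl.nq`, `hJ`); `s ∈ 𝐍[J]` normalises `⁅W, J⁆` and `𝐂[J]`. -/
theorem Gam.top2 {Γ : Subgroup (MulAut G)} (g : Gam S Γ) (b : Bl S W L 2)
    (hJ : 𝐉[2, S ⊓ 𝐍[W]] = 𝐉[2, S]) : False := by
  have r := b.rk
  have nq := b.nq
  have JS := thompsonSubgroupOf_le (p := 2) S
  have nJ := le_normalizer_thompsonSubgroupOf (p := 2) S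
  have eJ : ∀ a ∈ Γ, (𝐉[2, S]).map (MulEquiv.toMonoidHom a) = 𝐉[2, S] := fun a ha => by
    rw [map_thompsonSubgroupOf S a.injective, g.inv a ha]
  rw [hJ] at r nq
  generalize 𝐉[2, S] = J at r nq JS nJ eJ
  have jm : ∀ a ∈ Γ, ∀ x, a x ∈ J ↔ x ∈ J := fun a ha x => by
    rw [← mem_map_iff_mem (f := MulEquiv.toMonoidHom a) (x := x) a.injective, eJ a ha]
    rfl
  have cm : ∀ (a : MulAut G) (X : Subgroup G) x, a x ∈ 𝐂[X.map (MulEquiv.toMonoidHom a)] ↔ x ∈ 𝐂[X] :=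
    fun a X x => by
      rw [← mem_map_iff_mem (f := MulEquiv.toMonoidHom a) (x := x) a.injective,
        map_centralizer_of_bijective a.bijective]
      rfl
  obtain ⟨_, ⟨a, ha, rfl⟩, j, j1, j2, j3⟩ := one_type (J := J)
    (𝒲 := {X | ∃ a ∈ Γ, W.map (MulEquiv.toMonoidHom a) = X}) ⟨_, 1, one_mem _, rfl⟩ (by
      rintro _ ⟨a, ha, rfl⟩
      exact ⟨_, eJ a ha ▸ r.map a.injective⟩)
  obtain ⟨j, rfl⟩ := a.surjective j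
  rw [jm a ha] at j1
  rw [cm] at j2
  have j4 : ∀ c ∈ Γ, j ∉ 𝐂[W.map (MulEquiv.toMonoidHom c)] → ∀ x ∈ J,
      x ∈ 𝐂[W.map (MulEquiv.toMonoidHom c)] ↔ x ∈ 𝐂[W] := fun c hc n x hx => by
    have := SetLike.ext_iff.1 (j3 ((W.map (MulEquiv.toMonoidHom c)).map (MulEquiv.toMonoidHom a))
      ⟨a * c, mul_mem ha hc, by rw [map_map]; rfl⟩ (by rwa [cm])) (a x)
    simpa only [mem_inf, cm, jm a ha, hx, true_and] using this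
  obtain ⟨z, w, z1, z2, z3, z4, mW, w1, w2⟩ := rk2_elts r
  have wW := (mW w).2 (.inr (.inr (.inl rfl)))
  let K : Subgroup (MulAut G) :=
    { carrier := {c | ∀ x, c x ∈ J ⊓ 𝐂[W] ↔ x ∈ J ⊓ 𝐂[W]}
      one_mem' := fun _ => Iff.rfl
      mul_mem' := fun ha hb s => (ha _).trans (hb s)
      inv_mem' := fun {a} ha s => (ha _).symm.trans (by rw [MulAut.apply_inv_self]) }
  refine z1 (g.sg2 (U₁ := Γ ⊓ K) (w := w) inf_le_left (JS j1) z2 (fun c hc => ?_) (fun c hc => ?_)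
    (fun c hc n => ?_) (fun c hc c1 c2 => ⟨hc, fun x => ?_⟩) fun s hs k => ?_)
  · have := (cm c J z).2 z3
    rw [eJ c hc] at this
    rw [mem_centralizer_iff.1 this j j1, mul_inv_cancel_right]
  · obtain ⟨j, rfl⟩ := c.surjective j
    have k := (jm c hc.1 j).1 j1
    rw [← map_inv, ← map_mul, ← map_mul, w2 j k fun e => j2 ((hc.2 j).2 ⟨k, e⟩).2, map_mul]
  · have : j ∈ 𝐂[W.map (MulEquiv.toMonoidHom c)] := by_contra fun e => n ⟨hc, fun x => by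
      rw [mem_inf, mem_inf, ← jm c hc x, ← cm c W x]
      exact and_congr_right fun k => (j4 c hc e _ k).symm⟩
    rw [← mem_centralizer_iff.1 this (c w) ⟨w, wW, rfl⟩, mul_inv_cancel_right]
  · have cw : c w ∈ W := (mW _).2 (.inr (.inr c2))
    have zW := (mW z).2 (.inr (.inl rfl))
    have : W.map (MulEquiv.toMonoidHom c) = W := eq_of_le_of_card_ge (by
      rintro _ ⟨x, hx, rfl⟩
      change c x ∈ W
      obtain rfl | rfl | rfl | rfl := (mW x).1 hx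
      exacts [(map_one c).symm ▸ one_mem _, c1.symm ▸ zW, cw, by rw [map_mul, c1]; exact mul_mem cw zW])
      (Subgroup.card_map_of_injective c.injective).ge
    rw [mem_inf, mem_inf, jm c hc, ← cm c W x, this]
  · have nW := nq ⟨hs, mem_normalizer_iff.2 fun x => (k.2 x).symm⟩
    refine ⟨((z4 _).1 (Amb.conj_mem_of_mem_normalizer (Amb.le_normalizer_commutator
      (zpowers_le.2 nW) (zpowers_le.2 (nJ hs)) (mem_zpowers s)) ((z4 z).2 (.inr rfl)))).resolve_left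
        fun e => z1 (conj_eq_one_iff.1 e), ?_⟩
    have n : s * w * s⁻¹ ∉ 𝐂[J] := fun e => w1
      ((mem_normalizer_iff.1 (normalizer_le_normalizer_centralizer J (nJ hs)) w).2 e)
    exact (((mW _).1 (Amb.conj_mem_of_mem_normalizer nW wW)).resolve_left
      fun e => n (e ▸ one_mem _)).resolve_left fun e => n (e ▸ z3)

end Cfsg.Agent.ACn
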