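import Cfsg.Agent.ACn.Defs
import Cfsg.Agent.NFS.Env

/-!
# Basic facts on `Ca` (port of NFS/Env)
-/

set_option autoImplicit false
set_option linter.unusedSectionVars false

namespace Cfsg.Agent.ACn

open Cfsg.Agent.PLocal hiding centralizer_anti
open Subgroup Cfsg Cfsg.Agent.PLocal.Amb Cfsg.Agent.PLocal.TV
open Cfsg.Agent.PLocal.SL2Nat Cfsg.Agent.PLocal.Bk
open Cfsg.Agent.PLocal.CP (IsCharP MinOver ncl secCent)
open Cfsg.Agent.Solv.Ext (Inv)
open Cfsg.Agent.QT.Qrc (P2)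
open Cfsg.Agent.NFS
open scoped commutatorElement MatrixGroups Cfsg.Agent.PLocal.CP

variable {G : Type*} [Group G] [Finite G] {A : Type*} [Group A] [MulDistribMulAction A G]
  {S : Subgroup G}

theorem Ca.sol_norm (h : Ca A S) : S ≠ ⊥ ∧ ∀ X : Subgroup G, X ≠ ⊥ → X ≤ S → Inv A X → S ≤ 𝐍[X] →
    Group.IsSolvable 𝐍[X] := by
  refine ⟨fun k => h.nsol (S0205.result ?_), fun X h1 h2 h3 h4 => h.sol _ h3.normalizer h4 fun k => ?_⟩
  · have := h.syl.eq_bot_iff.1 k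
    rw [card_top] at this
    exact Nat.odd_iff.2 (by omega)
  · have := h.simple
    have hn : X.Normal := normalizer_eq_top_iff.1 k
    rcases hn.eq_bot_or_eq_top with e | e
    · exact h1 e
    · have hp : IsPGroup 2 (⊤ : Subgroup G) := h.syl.pgrp.to_le (e ▸ h2)
      have := (hp.of_equiv topEquiv).isNilpotent
      exact h.nsol inferInstance

theorem Ca.inv_basic (h : Ca A S) : Inv A 𝐙[S] ∧ Inv A 𝐉[2, S] ∧ Inv A 𝐁[2, S] ∧ Inv A (VV S) ∧
    𝐙[S] ≠ ⊥ ∧ 𝐉[2, S] ≠ ⊥ := by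
  have hZ := env_inv_Z h.inv
  have hJ := env_inv_J h.inv
  refine ⟨hZ, hJ, Solv.Ext.inv_of_map_eq fun a => ?_, env_inv_ncl hZ hJ.normalizer,
    omegaOne_ne_bot_of_isPGroup (h.syl.pgrp.to_le inf_le_left)
      (Amb.inf_centralizer_ne_bot h.syl.pgrp h.syl.pgrp le_normalizer h.sol_norm.1),
    thompsonSubgroupOf_ne_bot_of_isPGroup h.syl.pgrp h.sol_norm.1⟩
  rw [BlockTr.map_baumann _ (Solv.Ext.hom_injective a), h.inv.map_eq]

end Cfsg.Agent.ACn
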