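import Cfsg.Agent.ACn.Tw
import Cfsg.Agent.ACn.Inv
import Cfsg.Agent.NFS.TopB

/-!
# A rank one datum over `J(S)` with `q > 2` is impossible

Template: `NFS.Ce.top` in `NFS/TopB`.
-/

set_option autoImplicit false
set_option linter.unusedSectionVars false

namespace Cfsg.Agent.ACn

open Cfsg.Agent.PLocal hiding centralizer_anti
open Subgroup Cfsg Cfsg.Agent.PLocal.Amb Cfsg.Agent.PLocal.TV
open Cfsg.Agent.PLocal.SL2Nat Cfsg.Agent.PLocal.Bk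
open Cfsg.Agent.PLocal.CP (IsCharP MinOver ncl secCent)
open Cfsg.Agent.Solv.Ext (Inv)
open Cfsg.Agent.QT.Qrc (P2)
open Cfsg.Agent.NFS
open scoped commutatorElement MatrixGroups Cfsg.Agent.PLocal.CP

variable {G : Type*} [Group G] [Finite G] {A : Type*} [Group A] [MulDistribMulAction A G]
  {S W L : Subgroup G} {q : ℕ}

/-- the abstract form of the argument -/
theorem k6_abs {𝒴 : Set (Subgroup G)} {Z N Y H : Subgroup G} {α : A}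
    (fx : ∀ M V : Subgroup G, Inv A M → Inv A V → IsPGroup 2 V → M ≤ 𝐍[V] →
      ∀ π ∈ V, ∀ h ∈ M, h * α • π * h⁻¹ = π →
        ∀ C : Subgroup G, M ⊓ 𝐜[π] ≤ C → Odd (C.relIndex M) → M ≤ C)
    (hZ : IsElementaryAbelian 2 Z) (iZ : Inv A Z) (iN : Inv A N) (NZ : N ≤ 𝐍[Z])
    (hA : ∀ a : A, ∀ Y ∈ 𝒴, Y.map (Solv.Ext.hom G a) ∈ 𝒴) (hle : ∀ Y ∈ 𝒴, Y ≤ Z) (hY : Y ∈ 𝒴)
    (h1 : Y ≠ ⊥) (HN : H ≤ N) (HY : H ≤ 𝐍[Y]) (h0 : Y ⊓ 𝐂[H] = ⊥)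
    (ht : ∀ u ∈ Y, u ≠ 1 → ∀ v ∈ Y, v ≠ 1 → ∃ h ∈ H, h * u * h⁻¹ = v)
    (hd : ∀ Y' ∈ 𝒴, Y' = Y ∨ Y' ≤ 𝐂[H]) : False := by
  obtain ⟨M, hM⟩ : ∃ M : Subgroup G, ∀ x, x ∈ M ↔ x ∈ N ∧ ∀ Y' ∈ 𝒴, x ∈ 𝐍[Y'] :=
    ⟨N ⊓ ⨅ Y' ∈ 𝒴, 𝐍[Y'], fun x => by simp only [mem_inf, mem_iInf]⟩
  have iM : Inv A M := fun a x hx => (hM _).2 ⟨iN a x ((hM x).1 hx).1, fun Y' hY' => by
    have e : (Y'.map (Solv.Ext.hom G a⁻¹)).map (Solv.Ext.hom G a) = Y' := by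
      rw [map_map]
      conv_rhs => rw [← map_id Y']
      congr 1
      ext g
      exact smul_inv_smul a g
    rw [← e]
    exact le_normalizer_map _ (mem_map_of_mem (Solv.Ext.hom G a) (((hM x).1 hx).2 _ (hA a⁻¹ Y' hY')))⟩
  have MN : M ≤ N := fun x hx => ((hM x).1 hx).1
  have MY : M ≤ 𝐍[Y] := fun x hx => ((hM x).1 hx).2 Y hY
  have HM : H ≤ M := fun x hx => (hM x).2 ⟨HN hx, fun Y' hY' => (hd Y' hY').elim (fun e => e ▸ HY hx)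
    fun e => centralizer_le_normalizer' _ (le_centralizer_iff.1 e hx)⟩
  obtain ⟨K, k1, k2, k3⟩ : ∃ K : Subgroup G, K ≤ 𝐂[H] ⊓ 𝐂[Y] ∧ M ≤ 𝐍[K] ∧
      ∀ Y' ∈ 𝒴, Y' ≠ Y → Y' ≤ K := by
    refine ⟨sSup (𝒴 \ {Y}), sSup_le fun Y' hY' => le_inf ((hd Y' hY'.1).resolve_left hY'.2)
      ((hle Y' hY'.1).trans ((isEA_le_centralizer hZ).trans (centralizer_anti (hle Y hY)))),
      le_normalizer_iff_cj.2 fun x hx => map_le_iff_le_comap.2 (sSup_le fun Y' hY' y hy => ?_),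
      fun Y' hY' n => le_sSup ⟨hY', n⟩⟩
    exact (le_sSup hY' : Y' ≤ sSup (𝒴 \ {Y}))
      (Amb.conj_mem_of_mem_normalizer (((hM x).1 hx).2 _ hY'.1) hy)
  obtain ⟨T, hT⟩ := exists_isSyl 2 M
  obtain ⟨y, hy, y1⟩ := (bot_or_exists_ne_one _).resolve_left (Amb.inf_centralizer_ne_bot hT.pgrp
    ((isEA_isPGroup hZ).to_le (hle Y hY)) (hT.le.trans MY) h1)
  obtain ⟨h, hh, π, p1, p2, p3⟩ := tw2 (φ := MulDistribMulAction.toMulAut A G α) k1 ht (fun k => by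
    rw [← map_pow]
    by_cases e : Y.map (Solv.Ext.hom G (α ^ k)) = Y
    exacts [.inl e, .inr (k3 _ (hA _ Y hY) e)]) (hle Y hY) (iZ α) (HN.trans NZ) hy.1
  have key := fx M Z iM iZ (isEA_isPGroup hZ) (MN.trans NZ) π p1 h (HM hh) p3 𝐜[y] (fun x hx => by
    have e : x * π = π * x := mem_centralizer_singleton_iff.1 hx.2
    have m1 : y⁻¹ * (x * y * x⁻¹) ∈ Y :=
      mul_mem (inv_mem hy.1) (Amb.conj_mem_of_mem_normalizer (MY hx.1) hy.1)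
    have m2 : y⁻¹ * (x * y * x⁻¹) ∈ K := by
      rw [show y⁻¹ * (x * y * x⁻¹) = y⁻¹ * (x * π) * (y⁻¹ * π)⁻¹ * x⁻¹ by group, e,
        show y⁻¹ * (π * x) * (y⁻¹ * π)⁻¹ * x⁻¹ = y⁻¹ * π * (x * (y⁻¹ * π) * x⁻¹)⁻¹ by group]
      exact mul_mem p2 (inv_mem (Amb.conj_mem_of_mem_normalizer (k2 hx.1) p2))
    have m3 := mem_bot.1 (h0.le (mem_inf.2 ⟨m1, (k1 m2).1⟩))
    rw [mem_centralizer_singleton_iff]
    calc x * y = y * (y⁻¹ * (x * y * x⁻¹)) * x := by group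
      _ = y * x := by rw [m3, mul_one]) (by
    have hTy : T ≤ 𝐜[y] := fun t ht' => mem_centralizer_singleton_iff.2 (hy.2 t ht')
    exact Nat.not_even_iff_odd.1 fun e =>
      hT.not_dvd_relIndex (e.two_dvd.trans (relIndex_dvd_of_le_left M hTy)))
  exact y1 (mem_bot.1 (h0.le (mem_inf.2 ⟨hy.1, fun x hx =>
    mem_centralizer_singleton_iff.1 (key (HM hx))⟩)))

/-- `J = 𝐉[2, S]` is invariant, `𝐍[J]` solvable (`inv_basic`, `sol_norm`).  `𝒴 = {YY J W L | Rk J W L q}` is permuted by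
`A` and by `𝐍[J]` (`topB_map`, `Rk.map`, `Rk.cj`); members lie in the elementary abelian `Z = 𝐙[J]` (`yy`, `zw`).
`Y = YY J W L`, `H = HH J L`, `M = 𝐍[J] ⊓ ⨅ Y' ∈ 𝒴, 𝐍[Y']` (invariant), `K = sSup (𝒴 \ {Y}) ≤ 𝐂[H] ⊓ 𝐂[Y]` (`ycl`),
`H ≤ M` (`hh`, `normalizer_commutator_ge_right`, `ycl`), `M ≤ 𝐍[K]`.  `T` a Sylow 2-subgroup of `M`,
`1 ≠ y ∈ Y ⊓ 𝐂[T]` (`inf_centralizer_ne_bot`).  `tw2` with `φ = MulDistribMulAction.toMulAut A G α` (`α` from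
`fx`; `φ ^ k` is the action of `α ^ k`), `U = Y`, `X = Z`: `π = y c`, `c ∈ K`.  `fx` with `V = Z`, `C = 𝐜[y]`: for
`x ∈ M ⊓ 𝐜[π]`, `y⁻¹ (x y x⁻¹) = c (x c x⁻¹)⁻¹ ∈ Y ⊓ K ≤ Y ⊓ 𝐂[H] = ⊥`; the index is odd as `T ≤ 𝐜[y]`.  So
`H ≤ M ≤ 𝐜[y]`, `y ∈ Y ⊓ 𝐂[H] = ⊥`. -/
theorem Ca.top (c : Ca A S) (h : Rk 𝐉[2, S] W L q) (hq : 2 < q) : False := by
  have iJ := c.inv_basic.2.1
  have hs := c.sol_norm.2 _ c.inv_basic.2.2.2.2.2 (thompsonSubgroupOf_le S) iJ (vv_basic S).2.2.2.2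
  obtain ⟨α, fx⟩ := c.fx
  generalize 𝐉[2, S] = J at h iJ hs
  refine k6_abs (𝒴 := {Y | ∃ W L, Rk J W L q ∧ YY J W L = Y}) fx (CP.omegaZ_isEA J) (env_inv_Z iJ)
    iJ.normalizer (CP.normalizer_le_normalizer_omegaZ J) ?_ ?_ ⟨W, L, h, rfl⟩ (h.yy hq).2.1
    (h.hh.1.trans inf_le_right) (normalizer_commutator_ge_right _ _) (h.yy hq).2.2.1 (h.yy hq).2.2.2 ?_
  · rintro a _ ⟨W, L, r, rfl⟩
    exact ⟨_, _, iJ.map_eq a ▸ r.map (Solv.Ext.hom_injective a),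
      (topB_map ⟨Solv.Ext.hom_injective a, Solv.Ext.hom_surjective a⟩ (iJ.map_eq a)).symm⟩
  · rintro _ ⟨W, L, r, rfl⟩
    exact (r.yy hq).1.trans (r.zw.1.trans inf_le_right)
  · rintro _ ⟨W', L', r', rfl⟩
    exact h.ycl r' hq hs

end Cfsg.Agent.ACn
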