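import Cfsg.Agent.ACn.Sg
import Cfsg.Agent.NFS.DhC

/-!
# The end of the dihedral chain 

Read `NFS/Defs` (`Dh`, `DD`, `Fb`, `Pr`) and the signatures of `NFS/DhA`, `DhB`, `DhC`.
-/

set_option autoImplicit false
set_option linter.unusedSectionVars false

namespace Cfsg.Agent.ACn

open Cfsg.Agent.PLocal hiding centralizer_anti
open Subgroup Cfsg Cfsg.Agent.PLocal.Amb Cfsg.Agent.PLocal.TV
open Cfsg.Agent.PLocal.SL2Nat Cfsg.Agent.PLocal.Bk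
open Cfsg.Agent.PLocal.CP (IsCharP MinOver ncl secCent)
open Cfsg.Agent.Solv.Ext (Inv)
open Cfsg.Agent.QT.Qrc (P2)
open Cfsg.Agent.NFS
open scoped commutatorElement MatrixGroups Cfsg.Agent.PLocal.CP

variable {G : Type*} [Group G] [Finite G] {S Y D D' : Subgroup G} {r f z r' f' t : G}

/-- `t ∈ D ≤ Y ≤ 𝐍[D']` is an involution: `DD.invol` for `D'`.  If `t ∈ 𝐂[D']` then `D' ≤ S ⊓ 𝐂[fg z t]`
(`Dh.basic`: `D' ≤ 𝐜[z]`), so `z = ⁅f', t'⁆ ∈ Γ` (`Dh.ex`, `Dh.fg`, `Fb.cent`), against `zΓ`.  So `t` inverts `r'`,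
hence `f' ∈ zpowers r'`; `f'⁻¹ = f' z`. -/
theorem pr_inv (h : Pr S Y D r f z) (h' : Pr S Y D' r' f' z) (ht : t ∈ D) (ht' : t ∉ zpowers r) :
    t * f' * t⁻¹ = f' * z := by
  have d' := h'.dd.dh
  rcases (h'.dd.invol ⟨h.dd.le ht, h'.nD (h.DY ht)⟩ (h.dd.dh.sq t ht ht')).1 with c | c
  · obtain ⟨Γ, b⟩ := h.dd.fb t ht ht'
    obtain ⟨s, hs, hs'⟩ := d'.ex
    have le : D' ≤ S ⊓ 𝐂[fg z t] := fun x hx => ⟨h'.dd.le hx, dhc_c.2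
      ⟨mem_centralizer_singleton_iff.1 (d'.basic.2.2.2.2.2.1 hx), mem_centralizer_iff.1 c x hx⟩⟩
    refine absurd ?_ b.zΓ
    rw [← (d'.fg hs hs').2.2.2.2.2.2.2]
    exact (b.cent h.dd.dh ht ht').2.1 (commutator_mem_commutator (le d'.basic.1) (le hs))
  · rw [dhc_inv c d'.fr, mul_inv_cancel_right, inv_eq_iff_mul_eq_one, ← mul_assoc, d'.ff, d'.zz]

/-- `J = 𝐉[2, S]`, `J.map g = J` for `g ∈ Γ`.  By `Pr.tilde` we may assume `S ⊓ 𝐜[z] ≤ 𝐍[D]` (`S ≤ 𝐍[J]`).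
`Gam.sg2` with `j = t` a reflection of `D`, `w = f`, `U₁ = {g ∈ Γ | g z = z}`; `p.map g` is a link with centre
`g z`.  `h1`: `t ∈ J ≤ 𝐍[D.map g]`, `Dh.norm`.  `h2`: `pr_inv`.  `h2'`: `Pr.ne`.  `h4`: `Dh.norm`, `f⁻¹ = f z`. -/
theorem Gam.chain {Γ : Subgroup (MulAut G)} (g : Gam S Γ) (p : Pr S 𝐉[2, S] D r f z) : False := by
  obtain ⟨D₁, r₁, p₁, hn⟩ := p.tilde
  have d := p₁.dd.dh
  obtain ⟨t, ht, ht'⟩ := d.ex
  have hJ : ∀ a ∈ Γ, 𝐉[2, S].map (MulEquiv.toMonoidHom a) = 𝐉[2, S] := fun a ha => by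
    rw [map_thompsonSubgroupOf _ a.injective, g.inv a ha]
  have q := fun a ha => p₁.map a (g.inv a ha) (hJ a ha)
  refine d.z1 (g.sg2 (U₁ := Γ ⊓ MulAction.stabilizer (MulAut G) z) inf_le_left (j := t) (w := f)
    (p₁.dd.le ht) d.zz (fun a ha => ((q a ha).dd.dh.norm ((q a ha).nD (p₁.DY ht))).2.1)
    (fun a ha => ?_) (fun a ha n => ?_) (fun a ha e _ => ⟨ha, e⟩) fun s hs hu => ?_)
  · have e : a z = z := ha.2
    have k := q a ha.1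
    rw [e] at k ⊢
    exact pr_inv p₁ k ht ht'
  · rw [mem_centralizer_iff.1 ((p₁.ne (q a ha) fun e => n ⟨ha, e⟩).1 (q a ha).dd.dh.basic.1) t ht,
      mul_inv_cancel_right]
  · have e : s * z * s⁻¹ = z := hu.2
    refine ⟨e, (d.norm (hn ⟨⟨hs, cj_eq_iff.1 (hJ _ hu.1)⟩,
      mem_centralizer_singleton_iff.2 (mul_inv_eq_iff_eq_mul.1 e)⟩)).2.2.1.imp_right fun k => ?_⟩
    rw [k, inv_eq_iff_mul_eq_one, ← mul_assoc, d.ff, d.zz]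

end Cfsg.Agent.ACn
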