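import Cfsg.Agent.ACn.Bas

/-!
# The minimal counterexample (STUB, ~150 lines)
-/

set_option autoImplicit false
set_option linter.unusedSectionVars false

namespace Cfsg.Agent.ACn

open Cfsg.Agent.PLocal hiding centralizer_anti
open Subgroup Cfsg Cfsg.Agent.PLocal.Amb Cfsg.Agent.PLocal.TV
open Cfsg.Agent.PLocal.SL2Nat Cfsg.Agent.PLocal.Bk
open Cfsg.Agent.PLocal.CP (IsCharP MinOver ncl secCent)
open Cfsg.Agent.Solv.Ext (Inv)
open Cfsg.Agent.QT.Qrc (P2)
open Cfsg.Agent.NFS
open scoped commutatorElement MatrixGroups Cfsg.Agent.PLocal.CP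

universe u

/-- `D` from `Ac.exD`; `N` a minimal normal subgroup of `G` (`G` is nontrivial).  `G ⧸ N` is solvable (`Ac.map`, `ih`),
so `N` is not solvable; `⁅N, N⁆` is normal and `≠ ⊥`, so `= N`.  A proper subgroup `U ≥ D` is solvable
(`Ac.sub`, `ih`).  So `D ⊔ N = ⊤`.  `ind`: `D ⊔ K = ⊤` makes `K` normal, so `K = ⊥`.  `L` minimal among the
`⊥ ≠ L ≤ N` with `N ≤ 𝐍[L]`.  For `g : G`, `L' = cj(g, L)` has the same properties, `L ⊓ L' = ⊥` or `L = L'`
(orders), and `⁅L', L⁆ ≤ L ⊓ L'`; this is `dj`.  The normal closure of `L` is `N` and lies in `L ⊔ 𝐂[L]`: `NL`.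
`cL`: `L ⊓ 𝐂[L]` is normalised by `N`; if it is `L` then all conjugates of `L` commute with each other and
themselves, so `N` is abelian.  `simple`: a normal subgroup of `L` (mapped to `G`) is normalised by
`L ⊔ 𝐂[L] ≥ N`.  `nsol`: a solvable simple group is abelian, against `cL`. -/
theorem exists_rd {G : Type u} [Group G] [Finite G] {a : G} (h : Ac a) (hn : ¬ Group.IsSolvable G)
    (ih : ∀ (H : Type u) [Group H] [Finite H] (b : H), Nat.card H < Nat.card G → Ac b →
      Group.IsSolvable H) : ∃ D N L : Subgroup G, Rd a D N L := by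
  obtain ⟨D, aD, hD, nil⟩ := h.exD
  have : Nontrivial G := not_subsingleton_iff_nontrivial.1 fun _ => hn inferInstance
  obtain ⟨N, nN, N1, mN⟩ := Grp.exists_minNormal G
  have sN : ¬ Group.IsSolvable N := fun _ => by
    have := ih (G ⧸ N) _ (by
      rw [card_eq_card_quotient_mul_card_subgroup N]
      exact lt_mul_of_one_lt_right Nat.card_pos (N.one_lt_card_iff_ne_bot.2 N1))
      (h.map (QuotientGroup.mk'_surjective N))
    exact hn (Group.isSolvable_of_ker_le_range N.subtype (QuotientGroup.mk' N) (by simp))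
  have ab : ¬ N ≤ 𝐂[N] := fun c => sN (Group.isSolvable_of_comm fun x y => Subtype.ext (c y.2 x x.2))
  have pr : ∀ U : Subgroup G, D ≤ U → U ≠ ⊤ → Group.IsSolvable U := fun U hU n =>
    ih U _ (lt_of_le_of_ne (card_le_card_group U) fun e => n (eq_top_of_card_eq U e))
      (h.sub (hU aD) (top_le_iff.1 (hD.ge.trans (sup_le_sup_right hU _))))
  obtain ⟨L, LN, L1, nL, mL⟩ := CP.exists_min_invariant (K := N) le_normalizer N1
  have dj : ∀ g : G, g ∈ 𝐍[L] ∨ cj(g, L) ≤ 𝐂[L] := fun g => by
    have a : N ≤ 𝐍[cj(g, L)] := by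
      rw [normalizer_cj, ← cj_of_mem_normalizer (le_normalizer_of_normal (H := N) (mem_top g))]
      exact cj_mono g nL
    have b : cj(g, L) ≤ N := cj_le_of_mem_normalizer LN (le_normalizer_of_normal (mem_top g))
    refine ((mL _ inf_le_left (le_normalizer_inf nL a)).imp (fun e => ?_) fun e => ?_).symm
    · rw [← commutator_eq_bot_iff_le_centralizer, eq_bot_iff, ← e]
      exact le_inf (le_normalizer_iff_commutator_le_right.1 (b.trans nL))
        (le_normalizer_iff_commutator_le_left.1 (LN.trans a))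
    · exact cj_eq_iff.1 (eq_of_le_of_card_ge (inf_eq_left.1 e) (card_cj g L).le).symm
  have nc : ncl L ⊤ = N := (mN _ (CP.ncl_top L ▸ inferInstance) (CP.ncl_le LN le_normalizer_of_normal)).resolve_left
    fun e => L1 (eq_bot_iff.2 ((CP.le_ncl _ _).trans e.le))
  have NL : N ≤ L ⊔ 𝐂[L] := nc.ge.trans (CP.ncl_le_iff.2 fun g _ => (dj g).elim
    (fun e => (cj_of_mem_normalizer e).le.trans le_sup_left) fun e => e.trans le_sup_right)
  have cL : L ⊓ 𝐂[L] = ⊥ := (mL _ inf_le_left (le_normalizer_inf nL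
    (nL.trans (normalizer_le_normalizer_centralizer _)))).resolve_right fun e => ab (nc.ge.trans (CP.ncl_le
      (le_centralizer_iff.1 (NL.trans (sup_le (inf_eq_left.1 e) le_rfl))) le_normalizer_of_normal))
  have : Nontrivial L := (nontrivial_iff_ne_bot L).2 L1
  have sL : IsSimpleGroup L := ⟨fun X _ => (mL (X.map L.subtype) (map_subtype_le _) (NL.trans (sup_le
      (le_normalizer_map_subtype X) ((centralizer_le (map_subtype_le X)).trans
        (centralizer_le_normalizer' _))))).imp
    (fun e => (Subgroup.map_eq_bot_iff_of_injective _ L.subtype_injective).1 e)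
    fun e => map_injective L.subtype_injective (e.trans (by rw [← MonoidHom.range_eq_map, range_subtype]))⟩
  refine ⟨D, N, L, h, aD, hD, nil, nN, by_contra fun n => ?_, ?_, LN, nL, NL, cL, fun d _ => dj d, sL,
    fun s => L1 ?_, fun K hK nK => ?_⟩
  · exact sN (Solv.isSolvable_of_le le_sup_right (pr _ le_sup_left n))
  · exact ((mN _ inferInstance (commutator_le_left N N)).resolve_left fun e =>
      ab (commutator_eq_bot_iff_le_centralizer.1 e)).ge
  · rw [← cL, eq_comm, inf_eq_left]
    exact fun x hx y hy => congrArg Subtype.val (IsSimpleGroup.comm_iff_isSolvable.2 s ⟨y, hy⟩ ⟨x, hx⟩)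
  · by_cases e : D ⊔ K = ⊤
    · rw [(mN K (normalizer_eq_top_iff.1 (top_le_iff.1 (e.ge.trans (sup_le nK le_normalizer)))) hK.le).resolve_right
        hK.ne]
      infer_instance
    · exact Solv.isSolvable_of_le le_sup_right (pr _ le_sup_left e)

end Cfsg.Agent.ACn
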