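import Cfsg.Agent.ACn.Defs
import Cfsg.Agent.NFC.Tr

/-!
# The transfer argument
-/

set_option autoImplicit false
set_option linter.unusedSectionVars false

namespace Cfsg.Agent.ACn

open Cfsg.Agent.PLocal hiding centralizer_anti
open Subgroup Cfsg Cfsg.Agent.PLocal.Amb Cfsg.Agent.PLocal.TV
open Cfsg.Agent.PLocal.SL2Nat Cfsg.Agent.PLocal.Bk
open Cfsg.Agent.PLocal.CP (IsCharP MinOver ncl secCent)
open Cfsg.Agent.Solv.Ext (Inv)
open Cfsg.Agent.QT.Qrc (P2)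
open Cfsg.Agent.NFS
open scoped commutatorElement MatrixGroups Cfsg.Agent.PLocal.CP

variable {G : Type*} [Group G] [Finite G]

/-- Work in `↥Γ` (first prove the case `Γ = ⊤`, `j ∈ commutator G`, then use `subgroupOf Γ`).  `R.subgroupOf U` is
normal with commutative quotient `A`; `φ = QuotientGroup.mk' _ : U →* A`; `NFC.trh φ j = 1`
(`Abelianization.commutator_subset_ker`).  By `ha`, `j • q = q` for every coset `q` (`q = out q`), so
`trh φ j = ∏ q, ext1 φ ((out q)⁻¹ * (j * out q))`; the factor is `φ j` if `out q ∈ U₁` (`hd`), else `1` (`hb`);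
the cosets `q` with `out q ∈ U₁` are the image of `U₁ ⧸ U.subgroupOf U₁`
(`Subgroup.quotientSubgroupOfEmbeddingOfLE`), there are `U.relIndex U₁` of them. -/
theorem sg {Γ R U U₁ : Subgroup G} (h1 : R ≤ U) (h2 : U ≤ U₁) (h3 : U₁ ≤ Γ) (hc : ⁅U, U⁆ ≤ R) {j : G}
    (hj : j ∈ ⁅Γ, Γ⁆) (ha : ∀ g ∈ Γ, g⁻¹ * j * g ∈ U) (hb : ∀ g ∈ Γ, g ∉ U₁ → g⁻¹ * j * g ∈ R)
    (hd : ∀ g ∈ U₁, g⁻¹ * j * g * j⁻¹ ∈ R) : j ^ U.relIndex U₁ ∈ R := by
  classical
  rw [← map_subtype_commutator] at hj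
  obtain ⟨j, hj, rfl⟩ := hj
  let P := U.subgroupOf Γ
  let φ : P →* Abelianization P ⧸ ((R.subgroupOf Γ).subgroupOf P).map Abelianization.of :=
    (QuotientGroup.mk' _).comp Abelianization.of
  have key : ∀ x : P, φ x = 1 ↔ ((x : Γ) : G) ∈ R := fun x => by
    rw [MonoidHom.comp_apply, QuotientGroup.mk'_apply, QuotientGroup.eq_one_iff, ← mem_comap, comap_map_eq,
      Abelianization.ker_of, sup_of_le_left (show commutator P ≤ _ from commutator_le.2 fun a _ b _ =>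
        hc (commutator_mem_commutator a.2 b.2))]
    rfl
  have := Fintype.ofFinite (Γ ⧸ P)
  have := Fintype.ofFinite (U₁ ⧸ U.subgroupOf U₁)
  have m : ∀ g : Γ, g⁻¹ * (j * g) ∈ P := fun g => mul_assoc g⁻¹ j g ▸ ha g g.2
  have jP : j ∈ P := by simpa using m 1
  have fx : ∀ q : Γ ⧸ P, j • q = q := fun q => by
    induction q using QuotientGroup.induction_on with | H g => exact (QuotientGroup.eq.2 (m g)).symm
  have t : ∏ q : Γ ⧸ P, NFC.ext1 φ ((j • q).out⁻¹ * (j * q.out)) = 1 :=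
    Abelianization.commutator_subset_ker (NFC.trh φ) hj
  rw [← Finset.prod_subset (Finset.subset_univ (Finset.univ.map (quotientSubgroupOfEmbeddingOfLE U h3)))
    fun q _ hq => ?_, Finset.prod_map, Finset.prod_congr rfl (g := fun _ => φ ⟨j, jP⟩) fun q _ => ?_,
    Finset.prod_const, ← map_pow, key, Finset.card_univ, ← Nat.card_eq_fintype_card] at t
  · exact t
  · induction q using QuotientGroup.induction_on with | H g => ?_
    rw [fx, NFC.ext1_of_mem φ (m _), ← mul_inv_eq_one, ← map_inv, ← map_mul, key,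
      quotientSubgroupOfEmbeddingOfLE_apply_mk]
    obtain ⟨u, hu⟩ := QuotientGroup.mk_out_eq_mul P (inclusion h3 g)
    have := hd _ (mul_mem g.2 (h2 u.2))
    rw [mul_assoc _ _ (_ * _)] at this
    generalize Quotient.out _ = o at hu ⊢
    subst hu
    exact this
  · rw [fx, NFC.ext1_of_mem φ (m _), key]
    have := hb _ q.out.2 fun n => hq (Finset.mem_map.2 ⟨((⟨_, n⟩ : U₁) : U₁ ⧸ _), Finset.mem_univ _,
      (quotientSubgroupOfEmbeddingOfLE_apply_mk U h3 _).trans q.out_eq⟩)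
    rwa [mul_assoc] at this

/-- `U₁ = U`; `g⁻¹ j g j⁻¹ = ⁅g⁻¹, j⁆` -/
theorem sg1 {Γ R U : Subgroup G} (h1 : R ≤ U) (h3 : U ≤ Γ) (hc : ⁅U, U⁆ ≤ R) {j : G}
    (hj : j ∈ ⁅Γ, Γ⁆) (ha : ∀ g ∈ Γ, g⁻¹ * j * g ∈ U) (hb : ∀ g ∈ Γ, g ∉ U → g⁻¹ * j * g ∈ R) :
    j ∈ R := by
  have := sg h1 le_rfl h3 hc hj ha hb fun g hg => by
    have := hc (commutator_mem_commutator (inv_mem hg) (show j ∈ U by simpa using ha 1 (one_mem _)))
    rwa [commutatorElement_def, inv_inv] at this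
  rwa [relIndex_self, pow_one] at this

/-- `sg1` with `Γ = S ⊔ F`, `U = Γ ⊓ 𝐍[zpowers z]`, `R = Γ ⊓ 𝐜[z]` (two elements acting on `z` as powers
commute in their action), `j = b`.  If `g z g⁻¹ ∈ zpowers z` then `g ∈ 𝐍[zpowers z]`; if `g z g⁻¹ ∈ 𝐜[b]` then
`g⁻¹ b g ∈ 𝐜[z]`.  So `b ∈ 𝐜[z]`, `z = z⁻¹`. -/
theorem sgz {S F : Subgroup G} (h : S ≤ ⁅S ⊔ F, S ⊔ F⁆) {b z : G} (hb : b ∈ S) (hi : b * z * b⁻¹ = z⁻¹)
    (h2 : z * z ≠ 1) (hd : ∀ g ∈ S ⊔ F, g * z * g⁻¹ ∈ zpowers z ∨ g * z * g⁻¹ ∈ 𝐜[b]) : False := by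
  have nz : ∀ g : G, g * z * g⁻¹ ∈ zpowers z → g ∈ 𝐍[zpowers z] := fun g hg =>
    mem_normalizer_of_cj_le (cj_le_iff_forall.2 (by
      rintro _ ⟨k, rfl⟩
      rw [← conj_zpow]
      exact zpow_mem hg k))
  have cn : 𝐜[z] ≤ 𝐍[zpowers z] := fun g hg => nz g (by
    rw [mem_centralizer_singleton_iff.1 hg, mul_inv_cancel_right]; exact mem_zpowers z)
  have bG : ∀ g ∈ S ⊔ F, g⁻¹ * b * g ∈ S ⊔ F := fun g hg => mul_mem (mul_mem (inv_mem hg) (mem_sup_left hb)) hg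
  have cb : ∀ g : G, g * z * g⁻¹ ∈ 𝐜[b] → g⁻¹ * b * g ∈ 𝐜[z] := fun g hg => by
    rw [mem_centralizer_singleton_iff] at hg ⊢
    rw [show g⁻¹ * b * g * z = g⁻¹ * (b * (g * z * g⁻¹)) * g by group, ← hg]
    group
  have k := sg1 (Γ := S ⊔ F) (R := (S ⊔ F) ⊓ 𝐜[z]) (U := (S ⊔ F) ⊓ 𝐍[zpowers z]) (inf_le_inf_left _ cn)
    inf_le_left (commutator_le.2 fun x hx y hy => mem_inf.2 ⟨(mem_inf.1 (mul_mem (mul_mem (mul_mem hx hy)
      (inv_mem hx)) (inv_mem hy))).1, ?_⟩) (h hb) (fun g hg => mem_inf.2 ⟨bG g hg, (hd g hg).elim (fun q => mul_mem (mul_mem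
        (inv_mem (nz g q)) (nz b (hi ▸ inv_mem (mem_zpowers z)))) (nz g q)) fun q => cn (cb g q)⟩)
    fun g hg n => ⟨bG g hg, cb g ((hd g hg).resolve_left fun q => n ⟨hg, nz g q⟩)⟩
  · rw [mem_centralizer_singleton_iff.1 k.2, mul_inv_cancel_right] at hi
    exact h2 (mul_eq_one_iff_eq_inv.2 hi)
  obtain ⟨m, hm⟩ := mem_zpowers_iff.1 (inv_conj_mem_of_mem_normalizer hx.2 (mem_zpowers z))
  obtain ⟨n, hn⟩ := mem_zpowers_iff.1 (inv_conj_mem_of_mem_normalizer hy.2 (mem_zpowers z))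
  have e : ∀ {x y : G} {m n : ℤ}, z ^ m = x⁻¹ * z * x → z ^ n = y⁻¹ * z * y →
      y⁻¹ * (x⁻¹ * z * x) * y = z ^ (n * m) := fun {x y m n} hm hn => by
    rw [← hm, zpow_mul, hn]
    simpa using (conj_zpow (a := y⁻¹) (b := z) (i := m)).symm
  refine mem_centralizer_singleton_iff.2 ?_
  rw [commutatorElement_def, show x * y * x⁻¹ * y⁻¹ * z = x * y * (x⁻¹ * (y⁻¹ * z * y) * x) * x⁻¹ * y⁻¹ by group,
    e hn hm, mul_comm m, ← e hm hn]
  group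

/-- the automorphisms fixing `z` and `{w, w z}` -/
def sgV (w z : G) (z2 : z * z = 1) : Subgroup (MulAut G) where
  carrier := {g | g z = z ∧ (g w = w ∨ g w = w * z)}
  one_mem' := ⟨rfl, Or.inl rfl⟩
  mul_mem' := by
    rintro a b ⟨a1, a2 | a2⟩ ⟨b1, b2 | b2⟩ <;> simp [a1, a2, b1, b2, mul_assoc, z2]
  inv_mem' := by
    rintro a ⟨a1, a2⟩
    refine ⟨(MulEquiv.symm_apply_eq a).2 a1.symm, a2.imp (fun e => (MulEquiv.symm_apply_eq a).2 e.symm)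
      fun e => (MulEquiv.symm_apply_eq a).2 ?_⟩
    rw [map_mul, e, a1, mul_assoc, z2, mul_one]

theorem sgV_cm {w z : G} {z2 : z * z = 1} {a b : MulAut G} (ha : a ∈ sgV w z z2) (hb : b ∈ sgV w z z2) :
    a (b w) = b (a w) := by
  obtain ⟨a1, a2 | a2⟩ := ha <;> obtain ⟨b1, b2 | b2⟩ := hb <;> simp [a1, a2, b1, b2]

theorem sg_conj (g : MulAut G) (s : G) : g * MulAut.conj s * g⁻¹ = MulAut.conj (g s) := by
  ext x
  simp

theorem sg_norm {S : Subgroup G} {g : MulAut G} (h : ∀ s ∈ S, g s ∈ S) : g ∈ 𝐍[S.map MulAut.conj] :=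
  mem_normalizer_of_cj_le (cj_le_iff_forall.2 (by
    rintro _ ⟨s, hs, rfl⟩
    exact sg_conj g s ▸ mem_map_of_mem _ (h s hs)))

/-- `sg` in `MulAut G` with `U = {g ∈ Γ | g z = z ∧ (g w = w ∨ g w = w * z)}`, `R = {g ∈ Γ | g z = z ∧ g w = w}`,
`ĵ = MulAut.conj j`; `(g⁻¹ * ĵ * g) x = g⁻¹ (j * g x * j⁻¹)`.  `Ŝ = S.map MulAut.conj` is normalised by `Γ`
(`inv`: `g * conj s * g⁻¹ = conj (g s)`), `Ŝ ⊓ U₁ ≤ U` (`h4`), so `U.relIndex U₁ ∣ Ŝ.relIndex U₁ ∣ Ŝ.relIndex Γ` is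
odd (`relIndex_dvd_of_le_left`; for the last step pass to `↥Γ`, `relIndex_dvd_index_of_normal`).  `ĵ ^ 2 ∈ R`
and `ĵ ^ odd ∈ R`, so `ĵ ∈ R`; but `1 ∈ U₁` gives `j w j⁻¹ = w z`. -/
theorem Gam.sg2 {S : Subgroup G} {Γ U₁ : Subgroup (MulAut G)} (h : Gam S Γ) (hU : U₁ ≤ Γ) {j w z : G}
    (hj : j ∈ S) (z2 : z * z = 1) (h1 : ∀ g ∈ Γ, j * g z * j⁻¹ = g z)
    (h2 : ∀ g ∈ U₁, j * g w * j⁻¹ = g w * g z) (h2' : ∀ g ∈ Γ, g ∉ U₁ → j * g w * j⁻¹ = g w)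
    (h3 : ∀ g ∈ Γ, g z = z → (g w = w ∨ g w = w * z) → g ∈ U₁)
    (h4 : ∀ s ∈ S, MulAut.conj s ∈ U₁ → s * z * s⁻¹ = z ∧ (s * w * s⁻¹ = w ∨ s * w * s⁻¹ = w * z)) :
    z = 1 := by
  have jG : MulAut.conj j ∈ Γ := h.le (mem_map_of_mem _ hj)
  have ap : ∀ (g : MulAut G) (x : G), (g⁻¹ * MulAut.conj j * g) x = g.symm (j * g x * j⁻¹) := fun _ _ => rfl
  have cG : ∀ g ∈ Γ, g⁻¹ * MulAut.conj j * g ∈ Γ := fun g hg => mul_mem (mul_mem (inv_mem hg) jG) hg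
  have az : ∀ g ∈ Γ, (g⁻¹ * MulAut.conj j * g) z = z := fun g hg => by rw [ap, h1 g hg, g.symm_apply_apply]
  have aw : ∀ g ∈ U₁, (g⁻¹ * MulAut.conj j * g) w = w * z := fun g hg => by
    rw [ap, h2 g hg, ← map_mul, g.symm_apply_apply]
  have aw' : ∀ g ∈ Γ, g ∉ U₁ → (g⁻¹ * MulAut.conj j * g) w = w := fun g hg n => by
    rw [ap, h2' g hg n, g.symm_apply_apply]
  have aV : ∀ g ∈ Γ, g⁻¹ * MulAut.conj j * g ∈ sgV w z z2 := fun g hg =>
    ⟨az g hg, (em _).symm.imp (aw' g hg) (aw g)⟩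
  have jV : MulAut.conj j ∈ sgV w z z2 := by simpa using aV 1 (one_mem _)
  have jw : MulAut.conj j w = w * z := h2 1 (one_mem _)
  have k := sg (Γ := Γ) (R := Γ ⊓ sgV w z z2 ⊓ MulAction.stabilizer _ w) (U := Γ ⊓ sgV w z z2) (U₁ := U₁)
    inf_le_left (fun g hg => h3 g hg.1 hg.2.1 hg.2.2) hU (commutator_le.2 fun a ha b hb =>
      mem_inf.2 ⟨mul_mem (mul_mem (mul_mem ha hb) (inv_mem ha)) (inv_mem hb), ?_⟩) (h.der (mem_map_of_mem _ hj))
    (fun g hg => ⟨cG g hg, aV g hg⟩) (fun g hg n => ⟨⟨cG g hg, aV g hg⟩, aw' g hg n⟩)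
    fun g hg => mem_inf.2 ⟨mem_inf.2 ⟨mul_mem (cG g (hU hg)) (inv_mem jG), mul_mem (aV g (hU hg)) (inv_mem jV)⟩, ?_⟩
  · have := normal_subgroupOf_of_le_normalizer (show Γ ≤ 𝐍[S.map MulAut.conj] from fun g hg =>
      sg_norm fun s hs => h.inv g hg ▸ mem_map_of_mem _ hs)
    have d := relIndex_dvd_index_of_normal ((S.map MulAut.conj).subgroupOf Γ) (U₁.subgroupOf Γ)
    rw [relIndex_subgroupOf hU, ← inf_relIndex_right] at d
    have le : S.map MulAut.conj ⊓ U₁ ≤ Γ ⊓ sgV w z z2 := by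
      rintro _ ⟨⟨s, hs, rfl⟩, q⟩
      exact ⟨hU q, h4 s hs q⟩
    obtain ⟨n, hn⟩ := h.odd.of_dvd_nat ((relIndex_dvd_of_le_left U₁ le).trans d)
    have j2 : MulAut.conj j ^ 2 ∈ MulAction.stabilizer (MulAut G) w := by
      change MulAut.conj j (MulAut.conj j w) = w
      rw [jw, map_mul, jw, jV.1, mul_assoc, z2, mul_one]
    have := (mem_inf.1 k).2
    rw [hn, pow_succ, pow_mul, mul_mem_cancel_left (pow_mem j2 n)] at this
    exact left_eq_mul.1 (this.symm.trans jw)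
  · change a (b (a⁻¹ (b⁻¹ w))) = w
    rw [sgV_cm (inv_mem (mem_inf.1 ha).2) (inv_mem (mem_inf.1 hb).2)]
    simp
  · change (g⁻¹ * MulAut.conj j * g) ((MulAut.conj j)⁻¹ w) = w
    rw [sgV_cm (aV g (hU hg)) (inv_mem jV), aw g hg, ← jw]
    exact (MulAut.conj j).symm_apply_apply w

/-- `Γ = S.map MulAut.conj ⊔ B.map (MulDistribMulAction.toMulAut A G)` with `B` from `tt`.  `inv`: the `g` with
`S.map g = S` form a subgroup.  `der`: `tt` with `X = S ⊓ ⁅Γ, Γ⁆.comap MulAut.conj`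
(`conj (s⁻¹ * b • s) = ⁅(conj s)⁻¹, b̂⁆`).  `odd`: `B̂ ≤ 𝐍[Ŝ]`, `Grp.card_sup_dvd_of_le_normalizer`,
`|B̂| ∣ |B|` (see `h2` in `NFS.env_odd`). -/
theorem Ca.gam {A : Type*} [Group A] [MulDistribMulAction A G] {S : Subgroup G} (c : Ca A S) :
    ∃ Γ, Gam S Γ := by
  obtain ⟨B, ob, tt⟩ := c.tt
  let K : Subgroup (MulAut G) :=
    { carrier := {g | ∀ s, g s ∈ S ↔ s ∈ S}
      one_mem' := fun _ => Iff.rfl
      mul_mem' := fun ha hb s => (ha _).trans (hb s)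
      inv_mem' := fun {a} ha s => (ha _).symm.trans (by rw [MulAut.apply_inv_self]) }
  have k : S.map MulAut.conj ⊔ B.map (MulDistribMulAction.toMulAut A G) ≤ K := by
    refine sup_le ?_ ?_
    · rintro _ ⟨t, ht, rfl⟩ s
      exact (mul_mem_cancel_right (inv_mem ht)).trans (mul_mem_cancel_left ht)
    · rintro _ ⟨b, -, rfl⟩ s
      exact ⟨fun q => inv_smul_smul b s ▸ c.inv b⁻¹ _ q, c.inv b s⟩
  refine ⟨S.map MulAut.conj ⊔ B.map (MulDistribMulAction.toMulAut A G), fun g hg => ?_, le_sup_left,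
    map_le_iff_le_comap.2 ((tt _ inf_le_left (le_inf (commutator_le.2 fun a ha b hb => mul_mem (mul_mem
      (mul_mem ha hb) (inv_mem ha)) (inv_mem hb)) (map_le_iff_le_comap.1 ?_)) fun b hb s hs =>
        mem_inf.2 ⟨mul_mem (inv_mem hs) (c.inv b s hs), ?_⟩).trans inf_le_right), ?_⟩
  · ext x
    exact ⟨fun ⟨s, hs, e⟩ => e ▸ (k hg s).2 hs, fun hx => ⟨g⁻¹ x, (inv_mem (k hg) x).2 hx, g.apply_symm_apply x⟩⟩
  · rw [map_commutator]
    exact commutator_mono le_sup_left le_sup_left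
  · have := commutator_mem_commutator (mem_sup_left (T := B.map (MulDistribMulAction.toMulAut A G))
      (inv_mem (mem_map_of_mem MulAut.conj hs))) (mem_sup_right (S := S.map MulAut.conj)
      (mem_map_of_mem (MulDistribMulAction.toMulAut A G) hb))
    rw [commutatorElement_def, inv_inv, mul_assoc, mul_assoc, ← mul_assoc _ (MulAut.conj s), sg_conj,
      ← map_inv, ← map_mul] at this
    exact this
  · have d := Grp.card_sup_dvd_of_le_normalizer (show B.map (MulDistribMulAction.toMulAut A G) ≤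
      𝐍[S.map MulAut.conj] from fun g hg => sg_norm fun s hs => (k (mem_sup_right hg) s).2 hs)
    rw [sup_comm, ← PLocal.card_mul_relIndex_of_le le_sup_left, mul_comm (Nat.card (B.map _))] at d
    exact ob.of_dvd_nat ((Nat.dvd_of_mul_dvd_mul_left Nat.card_pos d).trans (card_map_dvd _ _))

end Cfsg.Agent.ACn
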