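import Cfsg.Agent.ACn.Bas
import Cfsg.Agent.ACn.Sg
import Cfsg.Agent.Transfer.Tate
import Cfsg.Agent.PLocal.LocalComp
import Cfsg.Agent.PLocal.PIrred
import Cfsg.Agent.Solv.NilpAmb

/-!
# Tate's theorem and transfer to the simple factor
-/

set_option autoImplicit false
set_option linter.unusedSectionVars false

namespace Cfsg.Agent.ACn

open Cfsg.Agent.PLocal hiding centralizer_anti
open Subgroup Cfsg Cfsg.Agent.PLocal.Amb Cfsg.Agent.PLocal.TV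
open Cfsg.Agent.PLocal.SL2Nat Cfsg.Agent.PLocal.Bk
open Cfsg.Agent.PLocal.CP (IsCharP MinOver ncl secCent)
open Cfsg.Agent.Solv.Ext (Inv)
open Cfsg.Agent.QT.Qrc (P2)
open Cfsg.Agent.NFS
open scoped commutatorElement MatrixGroups Cfsg.Agent.PLocal.CP

variable {G : Type*} [Group G] [Finite G] {a : G} {D N L : Subgroup G}

namespace RdC

theorem nrm {g : G} {A B : Subgroup G} (hA : g ∈ 𝐍[A]) (hB : ∀ b ∈ B, ⁅g, b⁆ ∈ A) : g ∈ 𝐍[A ⊔ B] :=
  mem_normalizer_of_cj_le (by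
    rw [cj_sup, cj_of_mem_normalizer hA]
    exact sup_le le_sup_left (cj_le_iff_forall.2 fun b hb => by
      simpa [commutatorElement_def] using mul_mem (mem_sup_left (hB b hb)) (mem_sup_right hb : b ∈ A ⊔ B)))

theorem odd_pow {x : G} (hx : x ∈ pResidual 2 G) : ∃ m, Odd m ∧ x ^ m ∈ commutator G := by
  suffices ∃ m, Odd m ∧ Abelianization.of x ^ m = 1 from this.imp fun m h => ⟨h.1, by
    rw [← Abelianization.ker_of, MonoidHom.mem_ker, map_pow, h.2]⟩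
  induction hx using closure_induction with
  | mem x hx => exact ⟨_, Nat.Coprime.odd_of_right hx, by rw [← map_pow, pow_orderOf_eq_one, map_one]⟩
  | one => exact ⟨1, odd_one, by simp⟩
  | mul x y _ _ hx hy =>
    obtain ⟨m, h1, h2⟩ := hx
    obtain ⟨n, k1, k2⟩ := hy
    exact ⟨m * n, h1.mul k1, by rw [map_mul, mul_pow, pow_mul, pow_mul', h2, k2, one_pow, one_pow, one_mul]⟩
  | inv x _ hx => exact hx.imp fun m h => ⟨h.1, by rw [map_inv, inv_pow, h.2, inv_one]⟩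

theorem pw {b c : G} {C : Subgroup G} (hb : b ∈ 𝐍[C]) (hc : c ∈ C) (n : ℕ) : (b * c) ^ n * (b ^ n)⁻¹ ∈ C := by
  induction n with
  | zero => simp
  | succ n ih =>
    rw [pow_succ', pow_succ' b, show b * c * (b * c) ^ n * (b * b ^ n)⁻¹ =
      b * (c * ((b * c) ^ n * (b ^ n)⁻¹)) * b⁻¹ by simp [mul_assoc]]
    exact conj_mem_of_mem_normalizer hb (mul_mem hc ih)

end RdC

open RdC

/-- `P` from `Ac.syl` (`K = N`), `H = D ⊔ P`; `H ⊔ N = ⊤`, so `H.index = H.relIndex N ∣ P.relIndex N` is odd.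
`H ⊓ commutator G = ⁅H, H⁆` (`Ac.sup`).  `Transfer.tate`: if `x ∈ H ⊓ pResidual 2 G` then `x ^ m ∈ commutator G`
for an odd `m` (the elements whose image in the abelianisation has odd order form a normal subgroup with
2-group quotient), so `μ x ^ m = 1`, `μ x = 1`.  `N ≤ pResidual 2 G` (`N` is perfect).  So `P ≤ 𝐎[2, H]`.
`D = T ⊔ O`, `T` the Sylow 2-subgroup, `O` the odd part of the nilpotent group `D` (both normalised by `D`, `T ≤ 𝐂[O]`).
`Y = ⁅P, O⁆ ⊔ O` is normalised by `H`, `H ≤ (P ⊔ T) ⊔ Y` with `P ⊔ T` a 2-group, so `𝐎[2, H] ≤ Y`; and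
`P ⊓ Y = ⁅P, O⁆ ⊔ (P ⊓ O) = ⁅P, O⁆`. -/
theorem Rd.tate (h : Rd a D N L) : ∃ P O : Subgroup G, IsSyl 2 P N ∧ D ≤ 𝐍[P] ∧ O ≤ D ∧
    Odd (Nat.card O) ∧ P ≤ ⁅P, O⁆ := by
  have := h.nN
  have NK : N ≤ commutator G := h.pf.trans (commutator_mono le_top le_top)
  obtain ⟨P, hP, DP⟩ := h.ac.syl h.aD h.sup h.nil NK le_normalizer_of_normal 2
  have hi : ¬ 2 ∣ (D ⊔ P).index := fun e => hP.not_dvd_relIndex (e.trans (by
    rw [← relIndex_top_right, ← h.top, sup_comm D N, CP.relIndex_sup_eq le_sup_left le_normalizer_of_normal]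
    exact relIndex_dvd_of_le_left N le_sup_right))
  have e := (h.ac.sup (mem_sup_left h.aD : a ∈ D ⊔ P)
    (top_le_iff.1 (h.sup.ge.trans (sup_le_sup_right le_sup_left _)))).2.1
  have t := Transfer.tate hi fun μ x hx => by
    obtain ⟨_, ⟨m, rfl⟩, k⟩ := odd_pow hx
    have k1 : (x : G) ^ (2 * m + 1) ∈ ⁅D ⊔ P, D ⊔ P⁆ := e.le ⟨pow_mem x.2 _, k⟩
    rw [← map_subtype_commutator, ← coe_pow, mem_map_subtype] at k1
    have k2 := Abelianization.commutator_subset_ker μ k1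
    rwa [MonoidHom.mem_ker, map_pow, pow_succ, pow_mul, (by decide : ∀ y : Multiplicative (ZMod 2), y ^ 2 = 1),
      one_pow, one_mul] at k2
  have PO : P ≤ 𝐎[2, D ⊔ P] := (le_inf (hP.le.trans (qGen_of_perfect (p := 2)
    (le_antisymm (commutator_le_self N) h.pf) _ fun x _ c => subset_closure c)) le_sup_right).trans t.le
  obtain ⟨T, hT⟩ := exists_isSyl 2 D
  have cO := Solv.NA.coprime_card_pRes (p := 2) h.nil
  have OD := pRes_le 2 D
  have DO := le_normalizer_pRes 2 D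
  have TD := hT.pRes_sup
  generalize 𝐎[2, D] = O at cO OD DO TD
  refine ⟨P, O, hP, DP, OD, cO.odd_of_right, fun y hy => ?_⟩
  have := pRes_sup_le (A := ⁅P, O⁆ ⊔ O) (isPGroup_sup hT.pgrp hP.pgrp (hT.le.trans DP))
    (sup_le (hT.le.trans (le_normalizer_sup (le_normalizer_commutator DP DO) DO)) fun g hg =>
      nrm (normalizer_commutator_ge_left _ _ hg) fun b hb => commutator_mem_commutator hg hb)
    (pRes_mono (sup_le (TD.ge.trans (sup_le_sup le_sup_right le_sup_left)) (le_sup_right.trans le_sup_right))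
      (PO hy))
  obtain ⟨c, hc, o, ho, rfl⟩ := (mem_sup_of_le_normalizer_left (normalizer_commutator_ge_right _ _)).1 this
  rwa [eq_one_of_isPGroup_of_coprime hP.pgrp ((mul_mem_cancel_left
    (le_normalizer_iff_commutator_le_left.1 (OD.trans DP) hc)).1 hy)
    (cO.coprime_dvd_left (O.orderOf_dvd_natCard ho)), mul_one]

/-- `S = P ⊓ L` (`IsSyl.inf_of_le`), `B = O ⊓ 𝐍[L]`, `C = 𝐂[L]`.  (1) `P ≤ S ⊔ C`: `y = l c`; `l`, `c` commute and
`l ^ 2 ^ k = (c ^ 2 ^ k)⁻¹ ∈ L ⊓ C = ⊥`; `l` acts on `S` as `y`, so `l ∈ L ⊓ 𝐍[S]` is a 2-element, `l ∈ S`.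
(2) `sg1` with `Γ = P ⊔ O`, `U = Γ ⊓ 𝐍[L] ≤ S ⊔ B ⊔ C` (`u = y o`, `y ∈ P ≤ N ≤ 𝐍[L]`), `R = Γ ⊓ Y`, `Y = X ⊔ B ⊔ C`,
`j = s ∈ S`.  `⁅S ⊔ B ⊔ C, S ⊔ B ⊔ C⁆ ≤ Y` (`S` normalises `Y`, so `Y` is normal in `S ⊔ Y` with abelian quotient).
For `g = y d ∈ Γ`... `g⁻¹ s g ∈ P`; if `g ∉ 𝐍[L]`, write `g⁻¹ = o y` (`o ∈ O ≤ D`, `o ∉ 𝐍[L]`):
`g⁻¹ s g ∈ cj(o, L) ≤ C` (`dj`).  (3) `s = x b c`, `s' = x⁻¹ s = b c ∈ S`; with `m = orderOf b` odd,
`s' ^ m ∈ L ⊓ C = ⊥` (`b` normalises `C`), so `s' = 1`. -/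
theorem Rd.tt (h : Rd a D N L) : ∃ S B : Subgroup G, IsSyl 2 S L ∧ D ⊓ 𝐍[L] ≤ 𝐍[S] ∧
    B ≤ D ⊓ 𝐍[L] ∧ Odd (Nat.card B) ∧ ∀ X : Subgroup G, X ≤ S → ⁅S, S⁆ ≤ X → ⁅S, B⁆ ≤ X → S ≤ X := by
  obtain ⟨P, O, hP, DP, OD, oO, PO⟩ := h.tate
  have hS := hP.inf_of_le h.LN h.nL
  have PL : P ≤ 𝐍[L] := hP.le.trans h.nL
  have CL := centralizer_le_normalizer' L
  have bot : ∀ x ∈ L, x ∈ 𝐂[L] → x = 1 := fun x a b => mem_bot.1 (h.cL.le ⟨a, b⟩)
  have dec : P ≤ P ⊓ L ⊔ 𝐂[L] := fun y hy => by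
    obtain ⟨l, hl, c, hc, rfl⟩ := (mem_sup_of_le_normalizer_left CL).1 (h.NL (hP.le hy))
    obtain ⟨k, hk⟩ := isPGroup_iff.1 hP.pgrp _ hy
    rw [(show Commute l c from hc l hl).mul_pow] at hk
    refine mul_mem (mem_sup_left (hS.le_of_normalizes (isPGroup_zpowers ⟨k, bot _ (pow_mem hl _)
      (eq_inv_of_mul_eq_one_left hk ▸ inv_mem (pow_mem hc _))⟩) (zpowers_le.2 hl) (zpowers_le.2 ?_)
      (mem_zpowers l))) (mem_sup_right hc)
    have : c ∈ 𝐍[P ⊓ L] := centralizer_le_normalizer' _ (centralizer_anti inf_le_right hc)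
    exact (mul_mem_cancel_right this).1 (le_normalizer_inf le_normalizer PL hy)
  refine ⟨P ⊓ L, O ⊓ 𝐍[L], hS, le_normalizer_inf (inf_le_left.trans DP) inf_le_right, inf_le_inf_right _ OD,
    oO.of_dvd_nat (card_dvd_of_le inf_le_left), fun X XS h1 h2 s hs => ?_⟩
  have XL : X ≤ L := XS.trans inf_le_right
  have SX : P ⊓ L ≤ 𝐍[X] := le_normalizer_iff_commutator_le_right.2 ((commutator_mono le_rfl XS).trans h1)
  have SY : P ⊓ L ≤ 𝐍[X ⊔ O ⊓ 𝐍[L] ⊔ 𝐂[L]] := fun g hg =>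
    nrm (nrm (SX hg) fun b hb => h2 (commutator_mem_commutator hg hb)) fun c hc => by
      rw [commutatorElement_eq_one_iff_mul_comm.2 (hc g hg.2)]; exact one_mem _
  have ΓP : O ⊔ P ≤ 𝐍[P] := sup_le (OD.trans DP) le_normalizer
  have XY : X ≤ X ⊔ O ⊓ 𝐍[L] ⊔ 𝐂[L] := le_sup_left.trans le_sup_left
  have k := sg1 (Γ := O ⊔ P) (U := (O ⊔ P) ⊓ 𝐍[L]) (R := (O ⊔ P) ⊓ (X ⊔ O ⊓ 𝐍[L] ⊔ 𝐂[L])) (j := s)
    (inf_le_inf_left _ (sup_le (sup_le (XL.trans le_normalizer) inf_le_right) CL)) inf_le_left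
    (le_inf ((commutator_le_self _).trans inf_le_left) (by
      have U : (O ⊔ P) ⊓ 𝐍[L] ≤ P ⊓ L ⊔ (X ⊔ O ⊓ 𝐍[L] ⊔ 𝐂[L]) := fun u hu => by
        obtain ⟨o, ho, y, hy, rfl⟩ := (mem_sup_of_le_normalizer_right (OD.trans DP)).1 hu.1
        exact mul_mem (mem_sup_right (mem_sup_left (mem_sup_right ⟨ho, (mul_mem_cancel_right (PL hy)).1 hu.2⟩)))
          ((dec.trans (sup_le_sup_left le_sup_right _)) hy)
      exact (commutator_mono U U).trans (CommMod.commutator_sup_le SY le_normalizer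
        (CommMod.commutator_sup_le' SY le_normalizer (h1.trans XY) (le_normalizer_iff_commutator_le_right.1 SY))
        (le_normalizer_iff_commutator_le_left.1 (sup_le SY le_normalizer)))))
    (commutator_mono le_sup_right le_sup_left (PO hs.1))
    (fun g hg => le_inf le_sup_right PL (inv_conj_mem_of_mem_normalizer (ΓP hg) hs.1)) fun g hg ng => by
      refine ⟨mem_sup_right (inv_conj_mem_of_mem_normalizer (ΓP hg) hs.1), mem_sup_right ?_⟩
      obtain ⟨o, ho, y, hy, e⟩ := (mem_sup_of_le_normalizer_right (OD.trans DP)).1 (inv_mem hg)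
      have := (h.dj o (OD ho)).resolve_left (fun a => ng ⟨hg, (𝐍[L]).inv_mem_iff.1 (by rw [e]; exact mul_mem a (PL hy))⟩)
        (conj_mem_cj o (conj_mem_of_mem_normalizer (PL hy) hs.2))
      rwa [show o * (y * s * y⁻¹) * o⁻¹ = o * y * s * (o * y)⁻¹ by group, ← e, inv_inv] at this
  have k2 := k.2
  rw [sup_assoc] at k2
  obtain ⟨x, hx, w, hw, rfl⟩ := (mem_sup_of_le_normalizer_left (sup_le (le_normalizer_iff_commutator_le_left.2
    ((commutator_mono XS le_rfl).trans h2)) ((centralizer_anti XL).trans (centralizer_le_normalizer' X)))).1 k2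
  have wS := (mul_mem_cancel_left (XS hx)).1 hs
  obtain ⟨b, hb, c, hc, rfl⟩ := (mem_sup_of_le_normalizer_right
    (inf_le_right.trans (normalizer_le_normalizer_centralizer L))).1 hw
  have := pw (normalizer_le_normalizer_centralizer L hb.2) hc (orderOf b)
  rw [pow_orderOf_eq_one, inv_one, mul_one] at this
  rwa [eq_one_of_isPGroup_of_coprime hS.pgrp wS ((oO.coprime_two_right.coprime_dvd_left
    (O.orderOf_dvd_natCard hb.1)).coprime_dvd_left (orderOf_dvd_of_pow_eq_one (bot _ (pow_mem wS.2 _) this))),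
    mul_one]

end Cfsg.Agent.ACn
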