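import Cfsg.Agent.ACn.RdB
import Cfsg.Agent.ACn.RdC

/-!
# Transport to the simple factor (STUB, ~100 lines)
-/

set_option autoImplicit false
set_option linter.unusedSectionVars false

namespace Cfsg.Agent.ACn

open Cfsg.Agent.PLocal hiding centralizer_anti
open Subgroup Cfsg Cfsg.Agent.PLocal.Amb Cfsg.Agent.PLocal.TV
open Cfsg.Agent.PLocal.SL2Nat Cfsg.Agent.PLocal.Bk
open Cfsg.Agent.PLocal.CP (IsCharP MinOver ncl secCent)
open Cfsg.Agent.Solv.Ext (Inv)
open Cfsg.Agent.QT.Qrc (P2)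
open Cfsg.Agent.NFS
open scoped commutatorElement MatrixGroups Cfsg.Agent.PLocal.CP

variable {G : Type*} [Group G] [Finite G] {a : G} {D N L : Subgroup G}

/-- The action is `MulDistribMulAction.compHom L (L.normalizerMonoidHom.comp (inclusion inf_le_right))`, with
`((x • l : L) : G) = x * l * x⁻¹`.  For `H : Subgroup L`: `Inv A H ↔ D ⊓ 𝐍[L] ≤ 𝐍[H.map L.subtype]`.
`S₀`, `B₀` from `Rd.tt`, `S = S₀.subgroupOf L`, `B = B₀.subgroupOf (D ⊓ 𝐍[L])`.  `sol`: `Rd.sol`; `fx`: `Rd.fx` for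
`M.map L.subtype`, `V.map L.subtype`, `C.map L.subtype` (`relIndex_map_map_of_injective`); `tt`: `Rd.tt` for
`X.map L.subtype` (`⁅s, b⁆ = (s⁻¹)⁻¹ * (b * s⁻¹ * b⁻¹)`). -/
theorem Rd.ca (h : Rd a D N L) : ∃ (_ : MulDistribMulAction ↥(D ⊓ 𝐍[L]) L) (S : Subgroup L),
    Ca ↥(D ⊓ 𝐍[L]) S := by
  letI I : MulDistribMulAction ↥(D ⊓ 𝐍[L]) L :=
    MulDistribMulAction.compHom L (L.normalizerMonoidHom.comp (inclusion inf_le_right))
  have sm : ∀ (x : ↥(D ⊓ 𝐍[L])) (l : L), ((x • l : L) : G) = x * l * (x : G)⁻¹ := fun x l => rfl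
  have inv1 : ∀ H : Subgroup L, Inv ↥(D ⊓ 𝐍[L]) H → D ⊓ 𝐍[L] ≤ 𝐍[H.map L.subtype] := fun H hH x hx =>
    mem_normalizer_of_cj_le (cj_le_iff_forall.2 (by
      rintro _ ⟨l, hl, rfl⟩
      exact ⟨_, hH ⟨x, hx⟩ l hl, sm _ _⟩))
  obtain ⟨S, B, hS, nS, hB, oB, tt⟩ := h.tt
  obtain ⟨α, hα, fx⟩ := h.fx
  have inj := L.subtype_injective
  refine ⟨I, S.subgroupOf L, h.simple, h.nsol, ?_, fun x l hl => ?_, fun H hH _ hne => ?_,
    ⟨⟨α, hα⟩, fun M V hM _ hV hn π hπ x hx e C hC ho => ?_⟩, B.subgroupOf _, ?_, fun X h1 h2 h3 => ?_⟩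
  · obtain ⟨P, hP⟩ := hS.exists_sylow
    rw [← hP]
    exact isSyl_top P
  · exact mem_subgroupOf.2 (conj_mem_of_mem_normalizer (nS x.2) (mem_subgroupOf.1 hl))
  · have := h.sol (M := H.map L.subtype) (lt_of_le_of_ne (map_subtype_le _) fun e => hne
      (eq_top_iff.2 fun l _ => mem_map_subtype.1 (e.ge l.2))) (inv1 H hH)
    exact Group.isSolvable_of_isSolvable_injective (f := (H.equivMapOfInjective _ inj).toMonoidHom)
      (H.equivMapOfInjective _ inj).injective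
  · have := fx (M.map L.subtype) (V.map L.subtype) (map_subtype_le _) (map_subtype_le _) (inv1 M hM)
      (hV.map _) (by
        rintro _ ⟨m, hm, rfl⟩
        exact mem_normalizer_of_cj_le (cj_le_iff_forall.2 (by
          rintro _ ⟨v, hv, rfl⟩
          exact ⟨_, conj_mem_of_mem_normalizer (hn hm) hv, rfl⟩)))
      π (mem_map_subtype.2 hπ) x (mem_map_subtype.2 hx) (congrArg Subtype.val e) (C.map L.subtype) (by
        rintro _ ⟨⟨m, hm, rfl⟩, hc⟩
        exact mem_map_subtype.2 (hC ⟨hm, mem_centralizer_singleton_iff.2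
          (Subtype.ext (mem_centralizer_singleton_iff.1 hc))⟩))
      (by rwa [relIndex_map_map_of_injective _ _ inj])
    exact (map_le_map_iff_of_injective inj).1 this
  · rwa [Nat.card_congr (subgroupOfEquivOfLe hB).toEquiv]
  · have e := map_subgroupOf_of_le hS.le
    have := tt (X.map L.subtype) (e ▸ map_mono h1) (by
        rw [← e, ← Subgroup.map_commutator]
        exact map_mono h2)
      (commutator_le.2 fun s hs b hb => by
        have := mem_map_subtype.2 (h3 ⟨b, hB hb⟩ (mem_subgroupOf.2 hb) ⟨s, hS.le hs⟩⁻¹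
          (inv_mem (mem_subgroupOf.2 hs)))
        rw [Subgroup.coe_mul, sm] at this
        simpa [commutatorElement_def, mul_assoc] using this)
    exact fun s hs => mem_map_subtype.1 (this (mem_subgroupOf.1 hs))

end Cfsg.Agent.ACn
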