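import Cfsg.Agent.CpN.Defs

/-!
# S4803 (captain helper51): definitions

THEOREM.  A finite group with an anticentral element `a` (`Ac a`: the coset `G' a` is one conjugacy
class) is solvable.  The proof reruns the NFS engine (helper49): `Ca` replaces `NFS.Ce`, `Ma` replaces
`NFS.Md`.  Operator arguments: twisted fixed points (`ACn/Tw`) and a transfer (`ACn/Sg`).
`Rd` is the configuration in a minimal counterexample: `D ∋ a` nilpotent, `N` minimal normal, `L` a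
simple factor of `N`; the operator group on `L` is `D ⊓ 𝐍[L]`.
-/

set_option autoImplicit false
set_option linter.unusedSectionVars false

namespace Cfsg.Agent.ACn

open Cfsg.Agent.PLocal hiding centralizer_anti
open Subgroup Cfsg Cfsg.Agent.PLocal.Amb Cfsg.Agent.PLocal.TV
open Cfsg.Agent.PLocal.SL2Nat Cfsg.Agent.PLocal.Bk
open Cfsg.Agent.PLocal.CP (IsCharP MinOver ncl secCent)
open Cfsg.Agent.Solv.Ext (Inv)
open Cfsg.Agent.QT.Qrc (P2)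
open Cfsg.Agent.NFS
open scoped commutatorElement MatrixGroups Cfsg.Agent.PLocal.CP

variable {G : Type*} [Group G]

/-- `a` is anticentral -/
def Ac (a : G) : Prop := ∀ x ∈ commutator G, ∃ g : G, g * a * g⁻¹ = x * a

/-- faithful module situation: `S D` acts on `V`, operators `F` -/
structure Ma (V S D F : Subgroup G) : Prop where
  ea : IsElementaryAbelian 2 V
  pg : IsPGroup 2 S
  nil : Group.IsNilpotent D
  odd : Odd (Nat.card D)
  SV : S ≤ 𝐍[V]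
  DV : D ≤ 𝐍[V]
  FV : F ≤ 𝐍[V]
  SD : S ≤ 𝐍[D]
  FD : F ≤ 𝐍[D]
  FS : F ≤ 𝐍[S]
  fD : D ⊓ 𝐂[V] = ⊥
  fS : S ⊓ 𝐂[V] = ⊥
  cD : S ⊓ 𝐂[D] = ⊥
  a1 : ∃ α ∈ F, ∀ r ∈ D, ∀ v ∈ V, r * (α * v * α⁻¹) * r⁻¹ = v → v ∈ 𝐂[D]
  a2 : S ≤ ⁅S ⊔ F, S ⊔ F⁆

/-- the simple factor of a minimal counterexample -/
structure Ca (A : Type*) [Group A] [MulDistribMulAction A G] (S : Subgroup G) : Prop where
  simple : IsSimpleGroup G
  nsol : ¬ Group.IsSolvable G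
  syl : IsSyl 2 S ⊤
  inv : Inv A S
  sol : ∀ H : Subgroup G, Inv A H → S ≤ H → H ≠ ⊤ → Group.IsSolvable H
  fx : ∃ α : A, ∀ M V : Subgroup G, Inv A M → Inv A V → IsPGroup 2 V → M ≤ 𝐍[V] →
    ∀ π ∈ V, ∀ h ∈ M, h * α • π * h⁻¹ = π →
      ∀ C : Subgroup G, M ⊓ 𝐜[π] ≤ C → Odd (C.relIndex M) → M ≤ C
  tt : ∃ B : Subgroup A, Odd (Nat.card B) ∧ ∀ X : Subgroup G, X ≤ S → ⁅S, S⁆ ≤ X →
    (∀ b ∈ B, ∀ s ∈ S, s⁻¹ * b • s ∈ X) → S ≤ X

/-- a group of automorphisms preserving `S`, with `Inn S` of odd index and inside the derived group -/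
structure Gam (S : Subgroup G) (Γ : Subgroup (MulAut G)) : Prop where
  inv : ∀ g ∈ Γ, S.map (MulEquiv.toMonoidHom g) = S
  le : S.map MulAut.conj ≤ Γ
  der : S.map MulAut.conj ≤ ⁅Γ, Γ⁆
  odd : Odd ((S.map MulAut.conj).relIndex Γ)

/-- the minimal counterexample -/
structure Rd (a : G) (D N L : Subgroup G) : Prop where
  ac : Ac a
  aD : a ∈ D
  sup : D ⊔ commutator G = ⊤
  nil : Group.IsNilpotent D
  nN : N.Normal
  top : D ⊔ N = ⊤
  pf : N ≤ ⁅N, N⁆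
  LN : L ≤ N
  nL : N ≤ 𝐍[L]
  NL : N ≤ L ⊔ 𝐂[L]
  cL : L ⊓ 𝐂[L] = ⊥
  dj : ∀ d ∈ D, d ∈ 𝐍[L] ∨ cj(d, L) ≤ 𝐂[L]
  simple : IsSimpleGroup L
  nsol : ¬ Group.IsSolvable L
  ind : ∀ K : Subgroup G, K < N → D ≤ 𝐍[K] → Group.IsSolvable K

end Cfsg.Agent.ACn
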