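import Cfsg.Agent.ACn.Ma3

/-!
# `Ma`: small involutions inverting a central element of order 5

`U_x = ⁅V, zpowers x⁆`, `I_b = ⁅V, zpowers b⁆`.
-/

set_option autoImplicit false
set_option linter.unusedSectionVars false

namespace Cfsg.Agent.ACn

open Cfsg.Agent.PLocal hiding centralizer_anti
open Subgroup Cfsg Cfsg.Agent.PLocal.Amb Cfsg.Agent.PLocal.TV
open Cfsg.Agent.PLocal.SL2Nat Cfsg.Agent.PLocal.Bk
open Cfsg.Agent.PLocal.CP (IsCharP MinOver ncl secCent)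
open Cfsg.Agent.Solv.Ext (Inv)
open Cfsg.Agent.QT.Qrc (P2)
open Cfsg.Agent.NFS
open scoped commutatorElement MatrixGroups Cfsg.Agent.PLocal.CP

variable {G : Type*} [Group G] [Finite G] {V S D F : Subgroup G} {b b' : G}

/-- Copy the last part of the proof of `NFS.Md.five` (from `have c1'`; `a4` says `b' z b'⁻¹ = z`). -/
theorem Ma.dis5 (h : Ma V S D F) (hb : Sm V S b) (hb' : Sm V S b') {z z' : G} (hz : z ∈ D ⊓ 𝐂[D])
    (h5 : orderOf z = 5) (hi : b * z * b⁻¹ = z⁻¹) (hz' : z' ∈ D ⊓ 𝐂[D]) (h5' : orderOf z' = 5)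
    (hi' : b' * z' * b'⁻¹ = z'⁻¹) (hne : b' ≠ b) : b' ∈ 𝐜[z] ∧ ⁅V, zpowers z⁆ ≤ 𝐜[b'] := by
  have z1 : z ≠ 1 := fun e => by simp [e] at h5
  have c1 := (h.mb_six hb hz.1 z1 hi).1
  have z1' : z' ≠ 1 := fun e => by simp [e] at h5'
  have c1' := (h.mb_six hb' hz'.1 z1' hi').1
  have a1 := (h.mb_gen hz h5 c1 hz'.1).resolve_left fun h1 =>
    hne (h.mb_eq hb hb' hz h5 hi hz' h5' hi' (eq_of_le_of_card_ge h1 (by omega)))
  have a2 := (h.mb_gen hz' h5' c1' hz.1).resolve_left fun h1 =>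
    hne (h.mb_eq hb hb' hz h5 hi hz' h5' hi' (eq_of_le_of_card_ge h1 (by omega)).symm)
  have tD := conj_mem_of_mem_normalizer (h.SD hb'.mem) hz.1
  have c4 : Nat.card ↥⁅V, zpowers (b' * z * b'⁻¹)⁆ = 16 := by
    rw [← mb_cj (h.SV hb'.mem), card_cj, c1]
  have a3 : z⁻¹ * (b' * z * b'⁻¹) ∈ zpowers z' := by
    refine (h.invz hb' hz' (h5' ▸ Nat.prime_five) hi').2 _ (mul_mem (inv_mem hz.1) tD) ?_ ?_
    · have : (z⁻¹ * (b' * z * b'⁻¹)) ^ 5 ^ 1 = 1 := by
        rw [pow_one, (Commute.inv_left (hz.2 _ tD).symm).mul_pow, conj_pow, inv_pow, ← h5,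
          pow_orderOf_eq_one]
        simp
      obtain ⟨j, -, hj⟩ := (Nat.dvd_prime_pow Nat.prime_five).1 (orderOf_dvd_of_pow_eq_one this)
      exact ⟨j, h5' ▸ hj⟩
    · calc _ = b' * z⁻¹ * b'⁻¹ * ((b' * b') * z * (b' * b')⁻¹) := by group
        _ = _ := by rw [hb'.sq]; group
  have a4 : z⁻¹ * (b' * z * b'⁻¹) = 1 := by
    by_contra w1
    have e1 := (h.mb_gen hz h5 c1 tD).resolve_right fun h1 => h.mb_not hz.1 c1 fun u hu => by
      have f1 : Commute u (b' * z * b'⁻¹) := mem_centralizer_singleton_iff.1 (h1 hu)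
      have f2 : Commute u (z⁻¹ * (b' * z * b'⁻¹)) :=
        ((Amb.centralizer_zpowers z').ge (a1 hu) _ a3).symm
      exact mem_centralizer_singleton_iff.2 (by
        simpa only [mul_inv_rev (z⁻¹), inv_inv, mul_inv_cancel_left] using
          (f1.mul_right f2.inv_right).eq)
    have e2 := (h.mb_gen hz' h5' c1' tD).resolve_right fun h1 => h.mb_not hz'.1 c1' fun u hu => by
      have f1 : Commute u (b' * z * b'⁻¹) := mem_centralizer_singleton_iff.1 (h1 hu)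
      have f2 : Commute u z := mem_centralizer_singleton_iff.1 (a2 hu)
      rw [← Amb.centralizer_zpowers, ← mb_zp (h5' ▸ Nat.prime_five) a3 w1, Amb.centralizer_zpowers]
      exact mem_centralizer_singleton_iff.2 (f2.inv_right.mul_right f1).eq
    exact h.mb_not hz'.1 c1' ((e2.trans (eq_of_le_of_card_ge e1 (by omega)).ge).trans a1)
  exact ⟨mem_centralizer_singleton_iff.2 (mul_inv_eq_iff_eq_mul.1 (inv_mul_eq_one.1 a4).symm), mb_cen (mb_nc (h.SV hb'.mem) (mul_inv_eq_iff_eq_mul.1 (inv_mul_eq_one.1 a4).symm))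
    ((commutator_mono (h.mb_le hz.1) le_rfl).trans (h.mb_I hb' hz'.1 z1' hi'))
    (eq_bot_iff.2 ((le_inf inf_le_right (inf_le_left.trans a1)).trans (h.mb_split hz'.1).2.le))⟩

theorem Ma.five (h : Ma V S D F) (hb : Sm V S b) {z : G} (hz : z ∈ D ⊓ 𝐂[D])
    (h5 : orderOf z = 5) (hi : b * z * b⁻¹ = z⁻¹) : False := by
  refine sgz h.a2 hb.mem hi (fun e => by
    have := orderOf_dvd_of_pow_eq_one ((sq z).trans e)
    rw [h5] at this
    omega) fun g hg => ?_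
  obtain ⟨b1, b2, b3, b4⟩ := h.cj_sm hb hz hi hg
  by_cases e : g * b * g⁻¹ = b
  · exact .inl ((h.invz hb hz (h5 ▸ Nat.prime_five) hi).2 _ b2.1 ⟨1, by rw [b3, pow_one]⟩ (e ▸ b4))
  · exact .inr (mem_centralizer_singleton_iff.2 (mem_centralizer_singleton_iff.1
      (h.dis5 b1 hb b2 (b3.trans h5) b4 hz h5 hi (Ne.symm e)).1).symm)

end Cfsg.Agent.ACn
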