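import Cfsg.Agent.ACn.MaA

/-!
# Module lemma for `Ma`: port of the operator-free parts of NFS/MdC
-/

set_option autoImplicit false
set_option linter.unusedSectionVars false

namespace Cfsg.Agent.ACn

open Cfsg.Agent.PLocal hiding centralizer_anti
open Subgroup Cfsg Cfsg.Agent.PLocal.Amb Cfsg.Agent.PLocal.TV
open Cfsg.Agent.PLocal.SL2Nat Cfsg.Agent.PLocal.Bk
open Cfsg.Agent.PLocal.CP (IsCharP MinOver ncl secCent)
open Cfsg.Agent.Solv.Ext (Inv)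
open Cfsg.Agent.QT.Qrc (P2)
open Cfsg.Agent.NFS
open scoped commutatorElement MatrixGroups Cfsg.Agent.PLocal.CP

open Cfsg.Agent.NFS.MdC

variable {G : Type*} [Group G] [Finite G] {V S D F : Subgroup G} {b b' : G}

theorem Ma.splitz (h : Ma V S D F) {x : G} (hx : x ∈ D) :
    ⁅V, zpowers x⁆ ⊔ (V ⊓ 𝐜[x]) = V ∧ ⁅V, zpowers x⁆ ⊓ 𝐜[x] = ⊥ := by
  have := odd_split h.ea (odd_le h.odd (zpowers_le.2 hx)) ((zpowers_le.2 hx).trans h.DV)
  rw [Amb.centralizer_zpowers] at this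
  exact ⟨this.1, this.2.1⟩

theorem Ma.ex_inv (h : Ma V S D F) (hb : Sm V S b) :
    ∃ x ∈ D, x ≠ 1 ∧ b * x * b⁻¹ = x⁻¹ := by
  obtain ⟨x, hx, hp, hi⟩ := exists_inv_prime hb.sq (h.SD hb.mem) fun e => hb.ne (by
    have : b ∈ S ⊓ 𝐂[D] := ⟨hb.mem, fun d hd => mem_c.1 (e hd)⟩
    rwa [h.cD, mem_bot] at this)
  exact ⟨x, hx, fun e => by rw [e, orderOf_one] at hp; exact Nat.not_prime_one hp, hi⟩

theorem Ma.card_I (h : Ma V S D F) (hb : Sm V S b) : Nat.card ↥⁅V, zpowers b⁆ = 4 := by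
  obtain ⟨x, hx, x1, hi⟩ := h.ex_inv hb
  exact (h.sixteen hb hx x1 hi).2.1

theorem Ma.mem_E (h : Ma V S D F) (hb : Sm V S b) {x : G} (hx : x ∈ D) (hi : b * x * b⁻¹ = x⁻¹) :
    x ∈ ⁅D, zpowers b⁆ := by
  rw [comm_eq_closure_inv h.odd hb.sq (h.SD hb.mem)]
  exact subset_closure ⟨hx, hi⟩

theorem Ma.E_le (h : Ma V S D F) (hb : b ∈ S) : ⁅D, zpowers b⁆ ≤ D :=
  le_normalizer_iff_commutator_le_left.1 (zpowers_le.2 (h.SD hb))

theorem Ma.zb (h : Ma V S D F) (hb : Sm V S b) (hc : D ⊓ 𝐂[D] ≤ 𝐜[b]) :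
    ⁅V, ⁅D, zpowers b⁆⁆ = ncl ⁅V, zpowers b⁆ ⁅D, zpowers b⁆ ∧ ¬ ⁅V, ⁅D, zpowers b⁆⁆ ≤ 𝐜[b] ∧
    (∃ z ∈ D ⊓ 𝐂[D], ⁅V, ⁅D, zpowers b⁆⁆ = ⁅V, zpowers z⁆) ∧
    ∀ y ∈ D ⊓ 𝐂[D], ⁅V, ⁅D, zpowers b⁆⁆ ≤ 𝐜[y] ∨ ⁅V, ⁅D, zpowers b⁆⁆ ≤ ⁅V, zpowers y⁆ := by
  obtain ⟨x, hx, x1, hi⟩ := h.ex_inv hb
  obtain ⟨c16, c4, hU⟩ := h.sixteen hb hx x1 hi
  have xE := h.mem_E hb hx hi
  have ED := h.E_le hb.mem
  have hE := comm_eq_closure_inv h.odd hb.sq (h.SD hb.mem)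
  set E := ⁅D, zpowers b⁆
  set I := ⁅V, zpowers b⁆
  have IV : I ≤ V := le_normalizer_iff_commutator_le_left.1 (zpowers_le.2 (h.SV hb.mem))
  have xU : ⁅V, zpowers x⁆ ≤ ⁅V, E⁆ := commutator_mono le_rfl (zpowers_le.2 xE)
  have e1 : ⁅V, E⁆ = ncl I E := by
    refine le_antisymm (commutator_le.2 fun v hv g hg => ?_)
      (CP.ncl_le (le_sup_left.trans (hU.ge.trans xU)) (normalizer_commutator_ge_right _ _))
    have hN := CP.le_normalizer_ncl I E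
    have hg' := hg
    rw [hE] at hg
    suffices g ∈ E ∧ ∀ v ∈ V, ⁅v, g⁆ ∈ ncl I E from this.2 v hv
    clear hg' hv v
    induction hg using closure_induction with
    | mem y hy =>
      have yE := h.mem_E hb hy.1 hy.2
      refine ⟨yE, fun v hv => ?_⟩
      by_cases y1 : y = 1
      · rw [y1, commutatorElement_one_right]; exact one_mem _
      · refine (sup_le (CP.le_ncl _ _) (CP.cj_le_ncl _ yE) : I ⊔ cj(y, I) ≤ _) ?_
        rw [← (h.sixteen hb hy.1 y1 hy.2).2.2]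
        exact commutator_mem_commutator hv (mem_zpowers y)
    | one => exact ⟨one_mem _, fun v _ => by rw [commutatorElement_one_right]; exact one_mem _⟩
    | mul p q _ _ hp hq =>
      refine ⟨mul_mem hp.1 hq.1, fun v hv => ?_⟩
      rw [show ⁅v, p * q⁆ = ⁅v, p⁆ * (p * ⁅v, q⁆ * p⁻¹) by simp only [commutatorElement_def]; group]
      exact mul_mem (hp.2 v hv) (conj_mem_of_mem_normalizer (hN hp.1) (hq.2 v hv))
    | inv p _ hp =>
      refine ⟨inv_mem hp.1, fun v hv => ?_⟩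
      rw [show ⁅v, p⁻¹⁆ = p⁻¹ * ⁅v, p⁆⁻¹ * p⁻¹⁻¹ by simp only [commutatorElement_def]; group]
      exact conj_mem_of_mem_normalizer (hN (inv_mem hp.1)) (inv_mem (hp.2 v hv))
  have e4 : ∀ y ∈ D ⊓ 𝐂[D], ⁅V, E⁆ ≤ 𝐜[y] ∨ ⁅V, E⁆ ≤ ⁅V, zpowers y⁆ := by
    intro y hy
    have Ey : E ≤ 𝐜[y] := fun e he => mem_c.2 (hy.2 e (ED he))
    have yI : y ∈ 𝐍[I] := n_comm (h.DV hy.1) (nz_c (hc hy))
    have JU : ⁅I, zpowers y⁆ ≤ ⁅V, zpowers y⁆ := commutator_mono IV le_rfl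
    rw [e1]
    rcases four c4 (le_normalizer_iff_commutator_le_left.1 (zpowers_le.2 yI))
      (normalizer_commutator_ge_right I _ (mem_zpowers y))
      (eq_bot_iff.2 ((inf_le_inf_right _ JU).trans (h.splitz hy.1).2.le)) with e | e
    · rw [commutator_eq_bot_iff_le_centralizer, Amb.centralizer_zpowers] at e
      exact .inl (CP.ncl_le e (Ey.trans le_normalizer))
    · exact .inr (CP.ncl_le (e.ge.trans JU) fun g hg => n_comm (h.DV (ED hg)) (nz_c (Ey hg)))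
  refine ⟨e1, fun e => ?_, ?_, e4⟩
  · have a := (free_inv (isEA_mono h.ea (le_normalizer_iff_commutator_le_left.1
      (zpowers_le.2 (h.DV hx)))) hb.sq (odd_ord h.odd hx) hi (n_comm (h.SV hb.mem) (nz_i hi))
      (normalizer_commutator_ge_right _ _ (mem_zpowers x)) (h.splitz hx).2).1
    rw [inf_eq_left.2 (xU.trans e), c16] at a
    omega
  · obtain ⟨z, zE, z1, zC⟩ := ex_center h.nil ED (normalizer_commutator_ge_left _ _)
      fun e => x1 (by rwa [e, mem_bot] at xE)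
    refine ⟨z, ⟨ED zE, zC⟩, le_antisymm ((e4 z ⟨ED zE, zC⟩).resolve_left fun e => z1 ?_)
      (commutator_mono le_rfl (zpowers_le.2 zE))⟩
    have a : V ≤ 𝐜[z] := by
      rw [← (odd_split h.ea (odd_le h.odd ED) (ED.trans h.DV)).1]
      exact sup_le e fun v hv => mem_c.2 (hv.2 z zE).symm
    have : z ∈ D ⊓ 𝐂[V] := ⟨ED zE, fun v hv => mem_c.1 (a hv)⟩
    rwa [h.fD, mem_bot] at this

theorem Ma.I_le (h : Ma V S D F) (hb : Sm V S b) (hc : D ⊓ 𝐂[D] ≤ 𝐜[b]) :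
    ⁅V, zpowers b⁆ ≤ ⁅V, ⁅D, zpowers b⁆⁆ := by
  rw [(h.zb hb hc).1]; exact CP.le_ncl _ _

theorem Ma.fix_le (h : Ma V S D F) (hb : Sm V S b) {w : G} (hw : w ∈ D) (w1 : w ≠ 1)
    (hi : b * w * b⁻¹ = w⁻¹) : V ⊓ 𝐜[w] ≤ 𝐜[b] := fun v hv => by
  have : ⁅v, b⁆ ∈ ⁅V, zpowers w⁆ ⊓ 𝐜[w] := by
    refine ⟨?_, ?_⟩
    · rw [(h.sixteen hb hw w1 hi).2.2]
      exact mem_sup_left (commutator_mem_commutator hv.1 (mem_zpowers b))
    · exact le_normalizer_iff_commutator_le_left.1 (zpowers_le.2 (n_c (nz_i hi)))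
        (commutator_mem_commutator hv.2 (mem_zpowers b))
  rw [(h.splitz hw).2, mem_bot, commutatorElement_eq_one_iff_mul_comm] at this
  exact mem_c.2 this

theorem Ma.same (h : Ma V S D F) (hb : Sm V S b) (hc : D ⊓ 𝐂[D] ≤ 𝐜[b]) (hb' : Sm V S b')
    (hc' : D ⊓ 𝐂[D] ≤ 𝐜[b']) (hU : ⁅V, ⁅D, zpowers b⁆⁆ = ⁅V, ⁅D, zpowers b'⁆⁆)
    (hbb : b * b' = b' * b) : b = b' := by
  by_contra hne
  haveI : Fact (Nat.Prime 2) := ⟨Nat.prime_two⟩
  obtain ⟨e1, -, ⟨z, hz, hUz⟩, -⟩ := h.zb hb hc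
  have IV : ⁅V, zpowers b⁆ ≤ V :=
    le_normalizer_iff_commutator_le_left.1 (zpowers_le.2 (h.SV hb.mem))
  have c4 := h.card_I hb
  have bb : b' ∈ 𝐜[b] := mem_c.2 hbb.symm
  -- (4') `b'` centralises `I_b`
  have Ic : ⁅V, zpowers b⁆ ≤ 𝐜[b'] := by
    have hne := inf_centralizer_ne_bot (T := zpowers b') (h.pg.to_le (zpowers_le.2 hb'.mem))
      (isEA_isPGroup (isEA_mono h.ea IV)) (zpowers_le.2 (n_comm (h.SV hb'.mem) (nz_c bb)))
      fun e => by rw [e, card_bot] at c4; omega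
    rw [Amb.centralizer_zpowers] at hne
    refine inf_eq_left.1 ((four c4 inf_le_left (z := z)
      (n_inf (n_comm (h.DV hz.1) (nz_c (hc hz))) (n_c (nz_c (hc' hz)))) ?_).resolve_left hne)
    exact eq_bot_iff.2 ((inf_le_inf_right _ (inf_le_left.trans ((h.I_le hb hc).trans hUz.le))).trans
      (h.splitz hz.1).2.le)
  have Ib : ⁅V, zpowers b⁆ ≤ 𝐜[b] := (card_comm_inv h.ea hb.sq (h.SV hb.mem)).2.trans inf_le_right
  have cm : ∀ {v : G}, v ∈ 𝐜[b] → v ∈ 𝐜[b'] → v ∈ 𝐜[b * b'] := fun p q =>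
    c_symm (mul_mem (c_symm p) (c_symm q))
  -- (1), (2)
  have hC : D ⊓ 𝐜[b * b'] ≤ 𝐜[b'] := by
    by_contra hn
    obtain ⟨w, hw, hp, i'⟩ := exists_inv_prime hb'.sq (n_inf (h.SD hb'.mem)
      (n_c (nz_c (cm bb (mem_c.2 rfl))))) hn
    have w1 : w ≠ 1 := fun e => by rw [e, orderOf_one] at hp; exact Nat.not_prime_one hp
    have i : b * w * b⁻¹ = w⁻¹ := by
      have a : b * b' * w * (b * b')⁻¹ = w := mul_inv_eq_iff_eq_mul.2 (mem_c.1 hw.2).symm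
      calc _ = (b * (b' * w * b'⁻¹) * b⁻¹)⁻¹ := by rw [i']; group
        _ = (b * b' * w * (b * b')⁻¹)⁻¹ := by group
        _ = _ := by rw [a]
    have a : V ≤ 𝐜[b * b'] := by
      rw [← (h.splitz hw.1).1]
      refine sup_le ?_ fun v hv => cm (h.fix_le hb hw.1 w1 i hv) (h.fix_le hb' hw.1 w1 i' hv)
      rw [(h.sixteen hb hw.1 w1 i).2.2]
      have : ⁅V, zpowers b⁆ ≤ 𝐜[b * b'] := fun v hv => cm (Ib hv) (Ic hv)
      exact sup_le this (cj_le_of_mem this hw.2)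
    have : b * b' ∈ S ⊓ 𝐂[V] := ⟨mul_mem hb.mem hb'.mem, fun v hv => mem_c.1 (a hv)⟩
    rw [h.fS, mem_bot] at this
    exact hne (mul_left_cancel (hb.sq.trans this.symm))
  -- (3)
  have Ec : ⁅D, zpowers b⁆ ≤ 𝐜[b'] := by
    rw [comm_eq_closure_inv h.odd hb.sq (h.SD hb.mem), closure_le]
    exact fun x hx => inv_cent h.odd hb.sq hb'.sq hbb (h.SD hb.mem) (h.SD hb'.mem) hC hx.1 hx.2
  exact (h.zb hb' hc').2.1 (by rw [← hU, e1]; exact CP.ncl_le Ic (Ec.trans le_normalizer))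

/-- distinct type B involutions have disjoint `U` -/
theorem Ma.dis (h : Ma V S D F) (hb : Sm V S b) (hc : D ⊓ 𝐂[D] ≤ 𝐜[b]) (hb' : Sm V S b')
    (hc' : D ⊓ 𝐂[D] ≤ 𝐜[b']) (hne : b' ≠ b) :
    ⁅V, ⁅D, zpowers b⁆⁆ ⊓ ⁅V, ⁅D, zpowers b'⁆⁆ = ⊥ := by
  obtain ⟨-, e2, ⟨z, hz, hUz⟩, e4⟩ := h.zb hb hc
  obtain ⟨-, -, ⟨z', hz', hUz'⟩, e4'⟩ := h.zb hb' hc'
  have nU : ∀ {g : G}, g ∈ S → g ∈ 𝐜[z] → g ∈ 𝐍[⁅V, ⁅D, zpowers b⁆⁆] := fun p q => by
    rw [hUz]; exact n_comm (h.SV p) (nz_c q)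
  have hbb : b * b' = b' * b := by
    by_contra hn
    obtain ⟨k, hk⟩ := isPGroup_iff.1 h.pg _ (mul_mem hb.mem hb'.mem)
    have ib : b⁻¹ = b := inv_eq_of_mul_eq_one_right hb.sq
    have ic : b'⁻¹ = b' := inv_eq_of_mul_eq_one_right hb'.sq
    obtain ⟨f, hf, f2, f4⟩ := ex_four k hk fun e => hn (by
      rw [eq_inv_of_mul_eq_one_left e, mul_inv_rev, ib, ic])
    have fS : f ∈ S := zpowers_le.2 (mul_mem hb.mem hb'.mem) hf
    have fz : f ∈ 𝐜[z] := zpowers_le.2 (mul_mem (c_symm (hc hz)) (c_symm (hc' hz))) hf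
    have bf : b * f * b⁻¹ = f⁻¹ := by
      obtain ⟨i, rfl⟩ := hf
      have : b * (b * b') * b⁻¹ = (b * b')⁻¹ := by
        rw [← mul_assoc, hb.sq, one_mul, mul_inv_rev, ic]
      show b * (b * b') ^ i * b⁻¹ = ((b * b') ^ i)⁻¹
      rw [← conj_zpow, this, inv_zpow]
    have e : f * b * f⁻¹ = f * f * b := by
      calc _ = f * (b * f * b⁻¹)⁻¹ * b := by group
        _ = _ := by rw [bf, inv_inv]
    obtain ⟨p, q⟩ := typeB_cj hb hc (h.SV fS) (le_normalizer fS) (h.SD fS)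
    have := h.same hb hc p q (by
      have a : zpowers (f * b * f⁻¹) = cj(f, zpowers b) := by
        rw [MonoidHom.map_zpowers]; rfl
      rw [a]
      conv_rhs => rw [← cj_of_mem_normalizer (h.SD fS), commutator_cj,
        ← cj_of_mem_normalizer (h.SV fS), commutator_cj]
      exact (cj_of_mem_normalizer (nU fS fz)).symm) (by
      rw [e]
      calc _ = (b * f * b⁻¹) * (b * f * b⁻¹) * (b * b) := by group
        _ = (f * f)⁻¹ * (b * b) := by rw [bf]; group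
        _ = _ := by rw [inv_eq_of_mul_eq_one_right f4]; group)
    rw [e] at this
    exact f2 (by simpa using this)
  rcases e4 z' hz' with a | a
  · rw [hUz', eq_bot_iff, ← (h.splitz hz'.1).2, inf_comm]; exact inf_le_inf_left _ a
  rcases e4' z hz with a' | a'
  · rw [hUz, eq_bot_iff, ← (h.splitz hz.1).2]; exact inf_le_inf_left _ a'
  exact absurd (h.same hb hc hb' hc' (le_antisymm (a.trans hUz'.ge) (a'.trans hUz.ge)) hbb).symm hne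

end Cfsg.Agent.ACn
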