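import Cfsg.Agent.ACn.MaC

/-!
# `Ma`: type B small involutions

`U_x = ⁅V, zpowers x⁆`, `I_b = ⁅V, zpowers b⁆`.
-/

set_option autoImplicit false
set_option linter.unusedSectionVars false

namespace Cfsg.Agent.ACn

open Cfsg.Agent.PLocal hiding centralizer_anti
open Subgroup Cfsg Cfsg.Agent.PLocal.Amb Cfsg.Agent.PLocal.TV
open Cfsg.Agent.PLocal.SL2Nat Cfsg.Agent.PLocal.Bk
open Cfsg.Agent.PLocal.CP (IsCharP MinOver ncl secCent)
open Cfsg.Agent.Solv.Ext (Inv)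
open Cfsg.Agent.QT.Qrc (P2)
open Cfsg.Agent.NFS
open scoped commutatorElement MatrixGroups Cfsg.Agent.PLocal.CP

open Cfsg.Agent.NFS.MdC

variable {G : Type*} [Group G] [Finite G] {V S D F : Subgroup G} {b b' : G}

theorem Ma.typeB (h : Ma V S D F) (hb : Sm V S b) (hc : D ⊓ 𝐂[D] ≤ 𝐜[b]) : False := by
  obtain ⟨-, -, ⟨z, hz, hUz⟩, -⟩ := h.zb hb hc
  have l := (h.I_le hb hc).trans hUz.le
  refine h.kill hz.1 (l.trans (h.i_le hz.1)) (h.card_I hb) (n_comm (h.DV hz.1) (nz_c (hc hz)))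
    (eq_bot_iff.2 ((inf_le_inf_right _ l).trans (h.i_bot hz.1).le)) fun f hf => ?_
  rw [← Ma.u_cj (h.FV hf)]
  by_cases e : f * b * f⁻¹ = b
  · exact .inl (by rw [e])
  obtain ⟨hb', hc'⟩ := typeB_cj hb hc (h.FV hf) (h.FS hf) (h.FD hf)
  obtain ⟨-, -, ⟨z', hz', hUz'⟩, -⟩ := h.zb hb' hc'
  have d := h.dis hb hc hb' hc' e
  rw [hUz, hUz'] at d
  exact .inr (((h.I_le hb' hc').trans hUz'.le).trans (mb_cen (mb_nc (h.DV hz.1) (hz.2 _ hz'.1).symm)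
    (commutator_mono (h.i_le hz'.1) le_rfl) ((inf_comm _ _).trans d)))

end Cfsg.Agent.ACn
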