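import Cfsg.Agent.ACn.Defs
import Cfsg.Agent.NFS.MdI

/-!
# Twisted fixed points
-/

set_option autoImplicit false
set_option linter.unusedSectionVars false

namespace Cfsg.Agent.ACn

open Cfsg.Agent.PLocal hiding centralizer_anti
open Subgroup Cfsg Cfsg.Agent.PLocal.Amb Cfsg.Agent.PLocal.TV
open Cfsg.Agent.PLocal.SL2Nat Cfsg.Agent.PLocal.Bk
open Cfsg.Agent.PLocal.CP (IsCharP MinOver ncl secCent)
open Cfsg.Agent.Solv.Ext (Inv)
open Cfsg.Agent.QT.Qrc (P2)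
open Cfsg.Agent.NFS
open scoped commutatorElement MatrixGroups Cfsg.Agent.PLocal.CP

variable {G : Type*} [Group G] [Finite G]

/-- `γ = MulAut.conj h * φ`.  By induction `(γ ^ k) u = (φ ^ k) u` for `k < n` (`h` centralises `(φ ^ k) u ∈ K`
for `0 < k < n`), and `(γ ^ n) u = h * (φ ^ n) u * h⁻¹ = u`.  So for every `k : ℕ`, `(γ ^ k) u = (γ ^ (k % n)) u` is
`u` or lies in `K`.  `CpN.diag1` with `A = zpowers γ` (its elements are `γ ^ k`, `k : ℕ`: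
`mem_powers_iff_mem_zpowers`), or `CpN.prod_fix'` with `𝒱 = Set.range fun k : ℕ => (γ ^ k) u`. -/
theorem tw0 {φ : MulAut G} {u h : G} {n : ℕ} (n0 : 0 < n) {K X : Subgroup G} (hK : K ≤ 𝐜[h] ⊓ 𝐜[u])
    (hk : ∀ k, 0 < k → k < n → (φ ^ k) u ∈ K) (hn : h * (φ ^ n) u * h⁻¹ = u) (hu : u ∈ X)
    (hX : ∀ x ∈ X, h * φ x * h⁻¹ ∈ X) : ∃ π ∈ X, u⁻¹ * π ∈ K ∧ h * φ π * h⁻¹ = π := by
  obtain ⟨γ, g1⟩ : ∃ γ : MulAut G, ∀ x, γ x = h * φ x * h⁻¹ := ⟨MulAut.conj h * φ, fun _ => rfl⟩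
  have k1 : ∀ k, k < n → (γ ^ k) u = (φ ^ k) u := fun k => by
    induction k with
    | zero => simp
    | succ k ih =>
      intro lt
      rw [pow_succ', MulAut.mul_apply, ih (by omega), g1, ← MulAut.mul_apply, ← pow_succ',
        ← mem_centralizer_singleton_iff.1 (hK (hk _ k.succ_pos lt)).1, mul_inv_cancel_right]
  have k2 : (γ ^ n) u = u := by
    obtain ⟨m, rfl⟩ := Nat.exists_eq_succ_of_ne_zero n0.ne'
    rw [pow_succ', MulAut.mul_apply, k1 m m.lt_succ_self, g1, ← MulAut.mul_apply, ← pow_succ', hn]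
  have k3 : ∀ j, (γ ^ (n * j)) u = u := fun j => by
    induction j with
    | zero => simp
    | succ j ih => rw [Nat.mul_succ, pow_add, MulAut.mul_apply, k2, ih]
  have k4 : ∀ k : ℕ, ∀ x ∈ X, (γ ^ k) x ∈ X := fun k x hx => by
    induction k with
    | zero => simpa using hx
    | succ k ih => rw [pow_succ', MulAut.mul_apply, g1]; exact hX _ ih
  obtain ⟨π, a1, a2, -, a3⟩ := CpN.diag1 (A := zpowers γ) (hK.trans inf_le_right) (fun a => by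
    obtain ⟨k, e⟩ := mem_powers_iff_mem_zpowers.2 a.2
    change a.1 u = u ∨ a.1 u ∈ K
    rw [← e]
    change (γ ^ k) u = u ∨ (γ ^ k) u ∈ K
    rw [← Nat.mod_add_div k n, pow_add, MulAut.mul_apply, k3, k1 _ (Nat.mod_lt _ n0)]
    rcases Nat.eq_zero_or_pos (k % n) with c | c
    · exact Or.inl (by simp [c])
    · exact Or.inr (hk _ c (Nat.mod_lt _ n0))) (fun a x hx => by
    obtain ⟨k, e⟩ := mem_powers_iff_mem_zpowers.2 a.2
    change a.1 x ∈ X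
    rw [← e]
    exact k4 k x hx) hu
  exact ⟨π, a1, a2, (g1 π).symm.trans (a3 ⟨γ, mem_zpowers γ⟩)⟩

/-- `u = 1`: `h = π = 1`.  Else `n` = least positive exponent with `U.map (φ ^ n) = U` (`orderOf φ` is one;
`Nat.find`); `(φ ^ n) u ∈ U` is not `1`; `ht` gives `h`; `tw0`. -/
theorem tw2 {φ : MulAut G} {U H K X : Subgroup G} (hK : K ≤ 𝐂[H] ⊓ 𝐂[U])
    (ht : ∀ u ∈ U, u ≠ 1 → ∀ v ∈ U, v ≠ 1 → ∃ h ∈ H, h * u * h⁻¹ = v)
    (hd : ∀ k : ℕ, U.map (MulEquiv.toMonoidHom (φ ^ k)) = U ∨ U.map (MulEquiv.toMonoidHom (φ ^ k)) ≤ K)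
    (hU : U ≤ X) (hX : ∀ x ∈ X, φ x ∈ X) (hH : H ≤ 𝐍[X]) {u : G} (hu : u ∈ U) :
    ∃ h ∈ H, ∃ π ∈ X, u⁻¹ * π ∈ K ∧ h * φ π * h⁻¹ = π := by
  classical
  by_cases u1 : u = 1
  · exact ⟨1, one_mem _, 1, one_mem _, by simp [u1], by simp⟩
  have ex : ∃ n : ℕ, 0 < n ∧ U.map (MulEquiv.toMonoidHom (φ ^ n)) = U :=
    ⟨orderOf φ, orderOf_pos φ, by rw [pow_orderOf_eq_one]; exact U.map_id⟩
  obtain ⟨n0, e⟩ := Nat.find_spec ex
  obtain ⟨h, hh, e'⟩ := ht ((φ ^ Nat.find ex) u) (e.le (mem_map_of_mem _ hu))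
    (fun c => u1 ((MulEquiv.map_eq_one_iff _).1 c)) u hu u1
  refine ⟨h, hh, tw0 n0 (hK.trans (inf_le_inf (fun x hx => ?_) fun x hx => ?_)) (fun k k0 lt => ?_) e'
    (hU hu) fun x hx => Amb.conj_mem_of_mem_normalizer (hH hh) (hX x hx)⟩
  · exact mem_centralizer_singleton_iff.2 (hx h hh).symm
  · exact mem_centralizer_singleton_iff.2 (hx u hu).symm
  · exact (hd k).resolve_left (fun c => Nat.find_min ex lt ⟨k0, c⟩) (mem_map_of_mem _ hu)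

/-- a fixed point free element is transitive on the involutions of a four-group: for `u ≠ 1`,
`u' = z u z⁻¹ ∉ {1, u}`, `U = {1, u, u', u u'}` (`NFS.mdi_four`), and `z u' z⁻¹ ∉ {1, u', u}` (if it is `u`
then `u u'` is fixed, so `u' = u⁻¹ = u`) -/
theorem four_tr {U : Subgroup G} {z : G} (hU : IsElementaryAbelian 2 U) (h4 : Nat.card U = 4)
    (hn : z ∈ 𝐍[U]) (h0 : U ⊓ 𝐜[z] = ⊥) :
    ∀ u ∈ U, u ≠ 1 → ∀ v ∈ U, v ≠ 1 → ∃ h ∈ zpowers z, h * u * h⁻¹ = v := by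
  intro u hu u1 v hv v1
  have fx : ∀ x ∈ U, z * x * z⁻¹ = x → x = 1 := fun x hx e => mem_bot.1
    (h0.le ⟨hx, mem_centralizer_singleton_iff.2 (mul_inv_eq_iff_eq_mul.1 e).symm⟩)
  have m1 := Amb.conj_mem_of_mem_normalizer hn hu
  have n1 : z * u * z⁻¹ ≠ 1 := fun c => u1 (conj_eq_one_iff.1 c)
  have n2 : u ≠ z * u * z⁻¹ := fun c => u1 (fx u hu c.symm)
  rcases mdi_four hU h4 hu m1 u1 n1 n2 hv with e | e | e | e
  · exact absurd e v1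
  · exact ⟨1, one_mem _, by simp [e]⟩
  · exact ⟨z, mem_zpowers z, e.symm⟩
  refine ⟨z * z, mul_mem (mem_zpowers z) (mem_zpowers z), ?_⟩
  rw [e, show z * z * u * (z * z)⁻¹ = z * (z * u * z⁻¹) * z⁻¹ by group]
  rcases mdi_four hU h4 hu m1 u1 n1 n2 (Amb.conj_mem_of_mem_normalizer hn m1) with k | k | k | k
  · exact absurd (conj_eq_one_iff.1 k) n1
  · have := fx _ (mul_mem hu m1) (by rw [← _root_.conj_mul, k, isEA_comm hU m1 hu])
    refine absurd ?_ n2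
    rw [eq_inv_of_mul_eq_one_right this]
    exact eq_inv_of_mul_eq_one_right (by rw [← pow_two, hU.2 u hu])
  · exact absurd (fx _ m1 k) n1
  · exact k

/-- `tw2` with `φ = MulAut.conj α` (`α` from `a1`; `φ ^ k = MulAut.conj (α ^ k)`), `H = zpowers z`,
`K = V ⊓ 𝐜[z]`, `X = V`, `1 ≠ u ∈ U`; `a1` gives `π ∈ 𝐂[D] ≤ 𝐜[z]`, so `u ∈ U ⊓ 𝐜[z] = ⊥`. -/
theorem Ma.kill {V S D F U : Subgroup G} {z : G} (h : Ma V S D F) (hz : z ∈ D) (hU : U ≤ V)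
    (h4 : Nat.card U = 4) (hn : z ∈ 𝐍[U]) (h0 : U ⊓ 𝐜[z] = ⊥)
    (hd : ∀ f ∈ F, cj(f, U) = U ∨ cj(f, U) ≤ 𝐜[z]) : False := by
  obtain ⟨α, hα, a1⟩ := h.a1
  obtain ⟨⟨u, hu⟩, u1⟩ := ne_bot_iff_exists_ne_one.1 (show U ≠ ⊥ from fun c => by
    rw [c, card_bot] at h4; exact absurd h4 (by decide))
  have cz := Amb.centralizer_zpowers z
  obtain ⟨r, hr, π, hπ, k1, k2⟩ := tw2 (φ := MulAut.conj α) (U := U) (H := zpowers z)
    (K := V ⊓ 𝐜[z]) (X := V) (le_inf (inf_le_right.trans cz.ge) (inf_le_left.trans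
      ((isEA_le_centralizer h.ea).trans (Amb.centralizer_anti hU))))
    (four_tr (isEA_mono h.ea hU) h4 hn h0) (fun k => by
      rw [← map_pow]
      exact (hd _ (pow_mem hα k)).imp_right fun c =>
        le_inf (cj_le_of_mem_normalizer hU (h.FV (pow_mem hα k))) c) hU
    (fun x hx => Amb.conj_mem_of_mem_normalizer (h.FV hα) hx) (zpowers_le.2 (h.DV hz)) hu
  have k3 : π ∈ 𝐜[z] := mem_centralizer_singleton_iff.2
    (a1 r (zpowers_le.2 hz hr) π hπ k2 z hz).symm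
  exact u1 (Subtype.ext (mem_bot.1 (h0.le (mem_inf.2 ⟨hu, (𝐜[z]).inv_mem_iff.1
    (((𝐜[z]).mul_mem_cancel_right k3).1 k1.2)⟩))))

end Cfsg.Agent.ACn
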