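import Cfsg.Agent.ACn.Bas
import Cfsg.Agent.ACn.Tw

/-!
# Invariant subgroups of the simple factor

`A = D ⊓ 𝐍[L]` is the operator group on `L`.
-/

set_option autoImplicit false
set_option linter.unusedSectionVars false

namespace Cfsg.Agent.ACn

open Cfsg.Agent.PLocal hiding centralizer_anti
open Subgroup Cfsg Cfsg.Agent.PLocal.Amb Cfsg.Agent.PLocal.TV
open Cfsg.Agent.PLocal.SL2Nat Cfsg.Agent.PLocal.Bk
open Cfsg.Agent.PLocal.CP (IsCharP MinOver ncl secCent)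
open Cfsg.Agent.Solv.Ext (Inv)
open Cfsg.Agent.QT.Qrc (P2)
open Cfsg.Agent.NFS
open scoped commutatorElement MatrixGroups Cfsg.Agent.PLocal.CP

variable {G : Type*} [Group G] [Finite G] {a : G} {D N L M : Subgroup G}

/-- `K = ncl M D`; each `cj(d, M)` is `M` (`d ∈ 𝐍[L]`) or lies in `cj(d, L) ≤ 𝐂[L]` (`dj`) -/
theorem Rd.ncl (h : Rd a D N L) (hM : M ≤ L) (hA : D ⊓ 𝐍[L] ≤ 𝐍[M]) :
    ∃ K, M ≤ K ∧ K ≤ N ∧ D ≤ 𝐍[K] ∧ K ≤ M ⊔ 𝐂[L] ∧ K ≤ 𝐍[M] := by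
  have := h.nN
  have k : CP.ncl M D ≤ M ⊔ 𝐂[L] := CP.ncl_le_iff.2 fun d hd => (h.dj d hd).elim
    (fun e => (cj_of_mem_normalizer (hA ⟨hd, e⟩)).le.trans le_sup_left)
    fun e => ((cj_mono d hM).trans e).trans le_sup_right
  exact ⟨CP.ncl M D, CP.le_ncl _ _, CP.ncl_le (hM.trans h.LN) (by rw [normalizer_eq_top]; exact le_top),
    CP.le_normalizer_ncl _ _, k, k.trans (sup_le le_normalizer
      ((centralizer_le hM).trans (centralizer_le_normalizer' _)))⟩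

/-- `K < N`: otherwise `L ≤ M ⊔ 𝐂[L]`, `l = m c` with `c ∈ L ⊓ 𝐂[L] = ⊥` -/
theorem Rd.sol (h : Rd a D N L) (hM : M < L) (hA : D ⊓ 𝐍[L] ≤ 𝐍[M]) : Group.IsSolvable M := by
  obtain ⟨K, k1, k2, k3, k4, -⟩ := h.ncl hM.le hA
  have := h.ind K (k2.lt_of_ne fun e => hM.not_ge fun l hl => ?_) k3
  · exact Group.isSolvable_of_isSolvable_injective (inclusion_injective k1)
  obtain ⟨m, hm, c, hc, rfl⟩ := (mem_sup_of_le_normalizer_right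
    (hM.le.trans (le_normalizer.trans (normalizer_le_normalizer_centralizer _)))).1 (k4 (e.ge (h.LN hl)))
  rwa [mem_bot.1 (h.cL.le ⟨(mul_mem_cancel_left (hM.le hm)).1 hl, hc⟩), mul_one]

/-- `Ac.syl` for `K` (`K ≤ N ≤ ⁅N, N⁆ ≤ commutator G`); intersect with `M` (`IsSyl.inf_of_le`) -/
theorem Rd.syl (h : Rd a D N L) (hM : M ≤ L) (hA : D ⊓ 𝐍[L] ≤ 𝐍[M]) (p : ℕ) [Fact p.Prime] :
    ∃ P, IsSyl p P M ∧ D ⊓ 𝐍[L] ≤ 𝐍[P] := by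
  obtain ⟨K, k1, k2, k3, -, k5⟩ := h.ncl hM hA
  obtain ⟨P, hP, nP⟩ := h.ac.syl h.aD h.sup h.nil
    ((k2.trans h.pf).trans (commutator_mono le_top le_top)) k3 p
  exact ⟨P ⊓ M, hP.inf_of_le k1 k5, le_normalizer_inf (inf_le_left.trans nP) hA⟩

/-- `α = a ^ m`, `m > 0` least with `a ^ m ∈ 𝐍[L]`.  `tw0` with `φ = MulAut.conj a`, `K = 𝐂[L]`, `X = N`: `ρ ∈ N`,
`π⁻¹ ρ ∈ 𝐂[L]`, `ρ` commutes with `x a`.  `U = D ⊔ K` (`K` from `Rd.ncl`): `x a = u a u⁻¹`, `u = k d` (`Ac.sup`, third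
clause), so `u⁻¹ ρ u` commutes with `a` and lies in `D` (`Ac.sup` for `D`, first clause); so
`δ = k⁻¹ ρ k ∈ D ⊓ N ≤ D ⊓ 𝐍[L]`.  `k = k₁ c₁`, `k₁ ∈ M`, `c₁ ∈ 𝐂[L]`; `δ = (k₁⁻¹ π k₁) c` with `c ∈ 𝐂[L]`. -/
theorem Rd.tw (h : Rd a D N L) : ∃ α ∈ D ⊓ 𝐍[L], ∀ M : Subgroup G, M ≤ L → D ⊓ 𝐍[L] ≤ 𝐍[M] →
    ∀ π ∈ L, ∀ x ∈ M, x * (α * π * α⁻¹) * x⁻¹ = π →
      ∃ k ∈ M, ∃ δ ∈ D ⊓ 𝐍[L], ∃ c ∈ 𝐂[L], δ = k⁻¹ * π * k * c := by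
  classical
  have := h.nN
  have ex : ∃ m, 0 < m ∧ a ^ m ∈ 𝐍[L] := ⟨orderOf a, orderOf_pos a, pow_orderOf_eq_one a ▸ one_mem _⟩
  refine ⟨a ^ Nat.find ex, ⟨pow_mem h.aD _, (Nat.find_spec ex).2⟩, fun M hM hA π hπ x hx e => ?_⟩
  obtain ⟨K, k1, k2, k3, k4, -⟩ := h.ncl hM hA
  obtain ⟨ρ, ρN, ρc, ρe⟩ := tw0 (φ := MulAut.conj a) (u := π) (h := x) (Nat.find_spec ex).1 (K := 𝐂[L]) (X := N)
    (fun c hc => ⟨mem_centralizer_singleton_iff.2 (hc x (hM hx)).symm,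
      mem_centralizer_singleton_iff.2 (hc π hπ).symm⟩)
    (fun k k0 hk => by
      rw [← map_pow, MulAut.conj_apply]
      exact (h.dj _ (pow_mem h.aD k)).resolve_left (fun e => Nat.find_min ex hk ⟨k0, e⟩) (conj_mem_cj _ hπ))
    (by rw [← map_pow, MulAut.conj_apply, e]) (h.LN hπ)
    fun y hy => h.nN.conj_mem _ (h.nN.conj_mem _ hy a) x
  obtain ⟨u, hu, eu⟩ := (h.ac.sup (U := D ⊔ K) (mem_sup_left h.aD)
    (eq_top_iff.2 (h.sup.ge.trans (sup_le_sup_right le_sup_left _)))).2.2 x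
    ⟨mem_sup_right (k1 hx), commutator_mono le_top le_top (h.pf (k2 (k1 hx)))⟩
  obtain ⟨d, hd, k, hk, ed⟩ := (mem_sup_of_le_normalizer_right k3).1 (inv_mem hu)
  have g1 : u⁻¹ * ρ * u ∈ D := by
    refine (h.ac.sup h.aD h.sup).1 _ ?_
    have : (u⁻¹ * ρ * u)⁻¹ * a * (u⁻¹ * ρ * u) = a := by
      rw [MulAut.conj_apply] at ρe
      calc _ = u⁻¹ * ρ⁻¹ * (u * a * u⁻¹) * ρ * u := by group
        _ = u⁻¹ * ρ⁻¹ * (x * (a * ρ * a⁻¹) * x⁻¹) * (x * a) * u := by rw [eu]; group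
        _ = a := by rw [ρe, ← eu]; group
    rw [this]
    exact h.aD
  have g2 : k * ρ * k⁻¹ ∈ D := by
    have : k * ρ * k⁻¹ = d⁻¹ * (u⁻¹ * ρ * u) * d := by
      rw [← inv_inv u, ed]; group
    rw [this]
    exact mul_mem (mul_mem (inv_mem hd) g1) hd
  obtain ⟨m, hm, c, hc, ec⟩ := (mem_sup_of_le_normalizer_right
    (hM.trans (le_normalizer.trans (normalizer_le_normalizer_centralizer _)))).1 (k4 (inv_mem hk))
  refine ⟨m, hm, _, ⟨g2, h.nL (h.nN.conj_mem _ ρN k)⟩, c⁻¹ * (π⁻¹ * ρ) * c,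
    mul_mem (mul_mem (inv_mem hc) ρc) hc, ?_⟩
  have c1 := inv_mem hc _ (mul_mem (mul_mem (inv_mem (hM hm)) hπ) (hM hm))
  have c2 := ρc _ (hM hm)
  rw [← inv_inv k, ec, inv_inv]
  calc _ = c⁻¹ * (m⁻¹ * π) * (π⁻¹ * ρ * m) * c := by group
    _ = c⁻¹ * (m⁻¹ * π * m) * (π⁻¹ * ρ) * c := by rw [← c2]; group
    _ = _ := by rw [← c1]; group

/-- `π' = k⁻¹ π k = δ c⁻¹ ∈ V` from `Rd.tw`.  Let `p` be a prime divisor of `C.relIndex M`, so odd, `P` from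
`Rd.syl`.  `π' ∈ 𝐍[P]` (`P ≤ L`), `P ≤ 𝐍[V]`, so `⁅π', y⁆ ∈ P ⊓ V = ⊥` for `y ∈ P`.  So the Sylow subgroup
`cj(k, P)` of `M` lies in `M ⊓ 𝐜[π] ≤ C`, and `p ∤ C.relIndex M`.  Hence the index is 1. -/
theorem Rd.fx (h : Rd a D N L) : ∃ α ∈ D ⊓ 𝐍[L], ∀ M V : Subgroup G, M ≤ L → V ≤ L →
    D ⊓ 𝐍[L] ≤ 𝐍[M] → IsPGroup 2 V → M ≤ 𝐍[V] → ∀ π ∈ V, ∀ x ∈ M, x * (α * π * α⁻¹) * x⁻¹ = π →
      ∀ C : Subgroup G, M ⊓ 𝐜[π] ≤ C → Odd (C.relIndex M) → M ≤ C := by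
  obtain ⟨α, hα, k⟩ := h.tw
  refine ⟨α, hα, fun M V hM hV hA pV nV π hπ x hx e C hC o => ?_⟩
  obtain ⟨k, hk, δ, hδ, c, hc, ed⟩ := k M hM hA π (hV hπ) x hx e
  by_contra ne
  obtain ⟨p, pp, hp⟩ := Nat.exists_prime_and_dvd (mt relIndex_eq_one.1 ne)
  have := Fact.mk pp
  have := Fact.mk Nat.prime_two
  have p2 : p ≠ 2 := fun e => by
    rw [e, ← even_iff_two_dvd, ← Nat.not_odd_iff_even] at hp
    exact hp o
  obtain ⟨P, hP, nP⟩ := h.syl hM hA p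
  have v : k⁻¹ * π * k ∈ V := by
    simpa using conj_mem_of_mem_normalizer (inv_mem (nV hk)) hπ
  have n : k⁻¹ * π * k ∈ 𝐍[P] := by
    rw [← mul_inv_eq_iff_eq_mul.2 ed]
    exact mul_mem (nP hδ) (inv_mem (centralizer_le_normalizer' _ (centralizer_le (hP.le.trans hM) hc)))
  have cP : P ≤ 𝐜[k⁻¹ * π * k] := fun y hy => by
    generalize k⁻¹ * π * k = w at v n
    have := (IsPGroup.disjoint_of_ne p 2 p2 P V hP.pgrp pV).le_bot (show y * w * y⁻¹ * w⁻¹ ∈ P ⊓ V from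
      ⟨by rw [mul_assoc y, mul_assoc y]; exact P.mul_mem hy (conj_mem_of_mem_normalizer n (P.inv_mem hy)),
        V.mul_mem (conj_mem_of_mem_normalizer (nV (hP.le hy)) v) (V.inv_mem v)⟩)
    exact mem_centralizer_singleton_iff.2 (commutatorElement_eq_one_iff_mul_comm.1 (mem_bot.1 this))
  have hP' := hP.cj_of_mem hk
  refine hP'.not_dvd_relIndex (hp.trans (relIndex_dvd_of_le_left M (le_trans (le_inf hP'.le ?_) hC)))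
  refine (cj_mono k cP).trans (le_of_eq ?_)
  rw [← centralizer_singleton_conj, show k * (k⁻¹ * π * k) * k⁻¹ = π by group]

end Cfsg.Agent.ACn
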