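import Cfsg.Agent.ACn.MaD
import Cfsg.Agent.ACn.Inv

/-!
# Transport of the module lemma to `G` (port of NFS/Trans)
-/

set_option autoImplicit false
set_option linter.unusedSectionVars false

namespace Cfsg.Agent.ACn

open Cfsg.Agent.PLocal hiding centralizer_anti
open Subgroup Cfsg Cfsg.Agent.PLocal.Amb Cfsg.Agent.PLocal.TV
open Cfsg.Agent.PLocal.SL2Nat Cfsg.Agent.PLocal.Bk
open Cfsg.Agent.PLocal.CP (IsCharP MinOver ncl secCent)
open Cfsg.Agent.Solv.Ext (Inv)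
open Cfsg.Agent.QT.Qrc (P2)
open Cfsg.Agent.NFS
open scoped commutatorElement MatrixGroups Cfsg.Agent.PLocal.CP

variable {G : Type*} [Group G] [Finite G] {A : Type*} [Group A] [MulDistribMulAction A G]

theorem mo_ma {Γ : Type*} [Group Γ] [Finite Γ] {V H : Subgroup G} {i : V →* Γ} {j : H →* Γ} {f : A →* Γ}
    (m : Mo i j f) (hn : H ≤ 𝐍[V]) {S : Subgroup G} (h : Ca A S) (hH : Inv A H) (hI : Inv A V)
    (hSH : S ≤ H) (hs : Group.IsSolvable H) (hV : IsElementaryAbelian 2 V)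
    (hr : CP.RedMod 2 𝐂[V] H) :
    Ma i.range ((S.subgroupOf H).map j) ((fittingSubgroup j.range).map j.range.subtype)
      f.range := by
  haveI : Group.IsSolvable j.range := solvable_of_surjective j.rangeRestrict_surjective
  have hS : (S.subgroupOf H).map j ≤ j.range := map_le_range _ _
  have hp : IsPGroup 2 ((S.subgroupOf H).map j) := (h.syl.pgrp.comap_subtype).map j
  have hc := Grp.coprime_of_le_pPrimeCore (Grp.fitting_le_pPrimeCore_of_pCore_eq_bot (m.core hn hr))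
  rw [← Subgroup.card_map_of_injective j.range.subtype_injective] at hc
  have hF : f.range ≤ 𝐍[j.range] := by
    have := m.f_norm' hH hH
    rwa [subgroupOf_self, ← MonoidHom.range_eq_map] at this
  have hFD := hF.trans (CP.normalizer_le_normalizer_map_subtype j.range (fittingSubgroup j.range))
  have fD : (fittingSubgroup j.range).map j.range.subtype ⊓ 𝐂[i.range] = ⊥ :=
    eq_bot_iff.2 ((inf_le_inf_right _ (map_subtype_le _)).trans (m.faith hn).le)
  refine ⟨?_, hp, Grp.isNilpotent_map_fitting _, Nat.coprime_two_right.1 hc,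
    hS.trans (m.j_norm hn), (map_subtype_le _).trans (m.j_norm hn), m.f_norm hI,
    hS.trans (le_normalizer_map_subtype _), hFD, m.f_norm' hH h.inv, fD,
    eq_bot_iff.2 ((inf_le_inf_right _ hS).trans (m.faith hn).le), ?_, ?_, ?_⟩
  · have := isEA_map (isEA_subgroupOf hV V) i
    rwa [subgroupOf_self, ← MonoidHom.range_eq_map] at this
  · refine eq_bot_iff.2 fun s hs => ?_
    have h1 : s ∈ (fittingSubgroup j.range).map j.range.subtype :=
      ⟨⟨s, hS hs.1⟩, Grp.centralizer_fitting_le _ fun x hx => Subtype.ext (hs.2 _ ⟨x, hx, rfl⟩), rfl⟩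
    obtain ⟨k, hk⟩ := hp ⟨s, hs.1⟩
    exact orderOf_eq_one_iff.1 (Nat.eq_one_of_dvd_coprimes (hc.pow_right k)
      (Subgroup.orderOf_dvd_natCard _ h1) (orderOf_dvd_of_pow_eq_one (congrArg Subtype.val hk)))
  · have hD : (fittingSubgroup j.range).map j.range.subtype ≤ j.range := map_subtype_le _
    generalize (fittingSubgroup j.range).map j.range.subtype = D at *
    obtain ⟨α, hα⟩ := h.fx
    have MH : (D.comap j).map H.subtype ≤ H := map_subtype_le _
    have eM : (((D.comap j).map H.subtype).subgroupOf H).map j = D := by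
      rw [subgroupOf, comap_map_eq_self_of_injective H.subtype_injective, map_comap_eq_self hD]
    refine ⟨f α, ⟨α, rfl⟩, fun r hr => ?_⟩
    obtain ⟨x, rfl⟩ := hD hr
    rintro _ ⟨v, rfl⟩ e
    rw [m.fi α v ⟨_, hI α _ v.2⟩ rfl, m.ji x ⟨_, hI α _ v.2⟩
      ⟨_, conj_mem_of_mem_normalizer (hn x.2) (hI α _ v.2)⟩ rfl] at e
    have k := hα ((D.comap j).map H.subtype) V (by
      rintro a _ ⟨x, hx, rfl⟩
      refine ⟨⟨_, hH a _ x.2⟩, mem_comap.2 ?_, rfl⟩
      rw [← m.fj a x ⟨_, hH a _ x.2⟩ rfl]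
      exact conj_mem_of_mem_normalizer (hFD ⟨a, rfl⟩) hx) hI (isEA_isPGroup hV) (MH.trans hn) v v.2 x
      ⟨x, hr, rfl⟩ (congrArg Subtype.val (m.inj e)) 𝐜[(v : G)] inf_le_right (by
        refine (Nat.coprime_two_right.1 hc).of_dvd_nat ((relIndex_dvd_of_le_left _
          (fun y hy => mem_centralizer_singleton_iff.2 (hy v v.2).symm : 𝐂[V] ≤ _)).trans ?_)
        rw [← m.idx_j hn MH, eM]
        exact relIndex_dvd_card _ _)
    intro d hd
    obtain ⟨y, rfl⟩ := hD hd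
    exact (m.comm_iff hn y v).2 (mem_centralizer_singleton_iff.1 (k ⟨y, hd, rfl⟩))
  · obtain ⟨B, -, hB⟩ := h.tt
    rintro _ ⟨s, hs, rfl⟩
    obtain ⟨x, hx, e⟩ := (hB (S ⊓ (⁅(S.subgroupOf H).map j ⊔ f.range,
      (S.subgroupOf H).map j ⊔ f.range⁆.comap j).map H.subtype) inf_le_left
      (le_inf (le_normalizer_iff_commutator_le_left.1 le_normalizer) (commutator_le.2 fun a ha b hb =>
        ⟨⁅(⟨a, hSH ha⟩ : H), ⟨b, hSH hb⟩⁆, mem_comap.2 (by
          rw [map_commutatorElement]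
          exact commutator_mem_commutator (mem_sup_left ⟨_, ha, rfl⟩) (mem_sup_left ⟨_, hb, rfl⟩)), rfl⟩))
      (fun b _ g hg => ⟨S.mul_mem (S.inv_mem hg) (h.inv b _ hg),
        (⟨g, hSH hg⟩ : H)⁻¹ * ⟨_, hH b _ (hSH hg)⟩, mem_comap.2 (by
          rw [map_mul, map_inv, ← m.fj b ⟨g, hSH hg⟩ ⟨_, hH b _ (hSH hg)⟩ rfl]
          rw [show (j ⟨g, hSH hg⟩)⁻¹ * (f b * j ⟨g, hSH hg⟩ * (f b)⁻¹) = ⁅(j ⟨g, hSH hg⟩)⁻¹, f b⁆ by
            rw [commutatorElement_def]; group]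
          exact commutator_mem_commutator (inv_mem (mem_sup_left ⟨_, hg, rfl⟩))
            (mem_sup_right ⟨b, rfl⟩)), rfl⟩) hs).2
    rwa [← Subtype.ext e]

theorem Ca.p24 {S H : Subgroup G} (h : Ca A S) (hH : Inv A H) (hSH : S ≤ H)
    (hs : Group.IsSolvable H) (hV : IsElementaryAbelian 2 (ncl 𝐙[S] H)) :
    P2 (ncl 𝐙[S] H) S ∧ P4 (ncl 𝐙[S] H) S := by
  have hI : Inv A (ncl 𝐙[S] H) := env_inv_ncl (env_inv_Z h.inv) hH
  have hn := CP.le_normalizer_ncl 𝐙[S] H
  obtain ⟨i, j, f, m⟩ := exists_mo hI hn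
  haveI : Finite (Solv.Ext.SD (MulAut (ncl 𝐙[S] H)) (ncl 𝐙[S] H)) := Solv.Ext.finite_SD
  have hm := mo_ma m hn h hH hI hSH hs hV ((CP.redMod_of_le (CP.le_centralizer_omegaZ S)).ncl
    (h.syl.mono hSH le_top) le_rfl hSH)
  refine ⟨fun B hB h1 h2 => ?_, fun B hB h1 h2 => ?_⟩
  · rw [← m.idx_j hn (hB.trans hSH), ← m.idx_i hn (hB.trans hSH)]
    exact hm.p2 _ (map_mono (comap_mono hB)) (m.quad hn (hB.trans hSH) h1)
      (m.not_le hn (hB.trans hSH) h2)
  · rw [← m.idx_j hn (hB.trans hSH), ← m.idx_i hn (hB.trans hSH)]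
    exact hm.p4 _ (map_mono (comap_mono hB)) (isEA_map (isEA_subgroupOf h1 H) j)
      (m.not_le hn (hB.trans hSH) h2)

end Cfsg.Agent.ACn
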